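import Cfsg.Agent.Recognition.G2Three.Mat

/-!
Kernel checks of the tables.
-/

set_option autoImplicit false

namespace Cfsg.Agent.Recognition.G2Three

open Matrix

/-- The root element of the table. -/
def rootL (p : ℕ × ℕ) : List ℕ := rootTab.getD (3 * p.1 + p.2) []

/-- The data of an element of order thirteen. -/
def cyc13 : Cyc :=
  ⟨mat13, pows13, vec13, inv13, orb13, traces13,
    [[0, 2, 1, 0, 1, 2, 2], [1, 1, 0, 0, 2, 2, 2], [1, 1, 1, 0, 2, 0, 0], [2, 0, 0, 0, 0, 0, 0]]⟩

/-- The data of an element of order seven. -/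
def cyc7 : Cyc :=
  ⟨mat7, pows7, vec7, inv7, orb7, traces7, [[2, 0, 0, 0, 0, 0, 0], [2, 1, 1, 1, 1, 1, 1]]⟩

theorem cyc13_ok : cyc13.ok = true := by decide +kernel

theorem cyc7_ok : cyc7.ok = true := by decide +kernel

theorem mat13_eq : prodL (word13.map rootL) = mat13 := by decide +kernel

theorem mat7_eq : prodL (word7.map rootL) = mat7 := by decide +kernel

theorem mat6_eq : prodL (word6.map rootL) = mat6 := by decide +kernel

/-- Powers of a listed matrix. -/
def powL (a : List ℕ) : ℕ → List ℕ
  | 0 => oneL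
  | n + 1 => mulL a (powL a n)

theorem order13 : powL mat13 13 = oneL ∧ mat13 ≠ oneL := by decide +kernel

theorem order7 : powL mat7 7 = oneL ∧ mat7 ≠ oneL := by decide +kernel

theorem order6 : powL mat6 6 = oneL ∧ powL mat6 2 ≠ oneL ∧ powL mat6 3 ≠ oneL ∧ mat6 ≠ oneL ∧
    reduced mat6 = true ∧ reduced mat7 = true ∧ reduced mat13 = true := by decide +kernel

/-- The generators of the Sylow subgroup are the products of the words. -/
theorem sylGens_eq : sylGenWords.map (fun w => prodL (w.map rootL)) = sylGens := by decide +kernel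

/-- The checks on the list of the Sylow subgroup. -/
def sylOK : Bool :=
  (sylElems.all fun m => reduced m && (m == oneL || !(mulL m m == oneL) || (traceL m == 2))) &&
    decide sylElems.Nodup &&
    sylElems.elem oneL &&
    (sylGens.all fun g => sylElems.all fun m => sylElems.elem (mulL g m)) &&
    (sylWords.map (fun w => prodL (w.map fun i => sylGens.getD i [])) == sylElems) &&
    (sylWords.all fun w => w.all fun i => decide (i < sylGens.length))

theorem syl_ok : sylOK = true := by decide +kernel

theorem syl_card : sylElems.length = 64 := by decide +kernel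

theorem root_form : ∀ r : Fin 12, ∀ t : Fin 3,
    mulL (trL (rootL (r.1, t.1))) (mulL formL (rootL (r.1, t.1))) = formL := by decide +kernel

theorem root_cube : ∀ r : Fin 12, ∀ t : Fin 3, powL (rootL (r.1, t.1)) 3 = oneL := by decide +kernel

/-- The exceptional combinations: minus one, a reflection, or not preserving the form. -/
theorem sols13 : cyc13.sols.all (fun c => decide (toM (cyc13.lin c) = -1) ||
    decide (toM (cyc13.lin c) = 1 + replicateCol Unit (toV [0, 0, 0, 1, 2, 1, 0]) *
      replicateRow Unit (-toV [0, 1, 2, 2, 0, 0, 0])) ||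
    decide ((toM (cyc13.lin c))ᵀ * toM formL * toM (cyc13.lin c) ≠ toM formL)) = true := by decide +kernel

theorem sols7 : cyc7.sols.all (fun c => decide (toM (cyc7.lin c) = -1) ||
    decide (toM (cyc7.lin c) = 1 + replicateCol Unit (toV [0, 0, 1, 0, 2, 0, 0]) *
      replicateRow Unit (-toV [0, 0, 1, 0, 2, 0, 0]))) = true := by decide +kernel

theorem refl_dot : (-toV [0, 1, 2, 2, 0, 0, 0]) ⬝ᵥ toV [0, 0, 0, 1, 2, 1, 0] = -2 ∧
    (-toV [0, 0, 1, 0, 2, 0, 0]) ⬝ᵥ toV [0, 0, 1, 0, 2, 0, 0] = -2 := by decide +kernel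

end Cfsg.Agent.Recognition.G2Three
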