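import Mathlib

/-!
Tables for the seven-dimensional representation of the group of type G₂ over the field with three elements.
-/

set_option autoImplicit false

namespace Cfsg.Agent.Recognition.G2Three

def rootTab : List (List ℕ) :=
  [[1, 0, 0, 0, 0, 0, 0, 0, 1, 0, 0, 0, 0, 0, 0, 0, 1, 0, 0, 0, 0, 0, 0, 0, 1, 0, 0, 0, 0, 0, 0, 0, 1, 0, 0, 0, 0, 0, 0, 0, 1, 0, 0, 0, 0, 0, 0, 0, 1],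
    [1, 0, 0, 0, 0, 1, 0, 0, 1, 0, 0, 0, 0, 2, 0, 0, 1, 0, 0, 0, 0, 0, 0, 0, 1, 0, 0, 0, 0, 0, 0, 0, 1, 0, 0, 0, 0, 0, 0, 0, 1, 0, 0, 0, 0, 0, 0, 0, 1],
    [1, 0, 0, 0, 0, 2, 0, 0, 1, 0, 0, 0, 0, 1, 0, 0, 1, 0, 0, 0, 0, 0, 0, 0, 1, 0, 0, 0, 0, 0, 0, 0, 1, 0, 0, 0, 0, 0, 0, 0, 1, 0, 0, 0, 0, 0, 0, 0, 1],
    [1, 0, 0, 0, 0, 0, 0, 0, 1, 0, 0, 0, 0, 0, 0, 0, 1, 0, 0, 0, 0, 0, 0, 0, 1, 0, 0, 0, 0, 0, 0, 0, 1, 0, 0, 0, 0, 0, 0, 0, 1, 0, 0, 0, 0, 0, 0, 0, 1],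
    [1, 0, 0, 0, 1, 0, 0, 0, 1, 0, 0, 0, 0, 0, 0, 0, 1, 0, 0, 0, 2, 0, 0, 0, 1, 0, 0, 0, 0, 0, 0, 0, 1, 0, 0, 0, 0, 0, 0, 0, 1, 0, 0, 0, 0, 0, 0, 0, 1],
    [1, 0, 0, 0, 2, 0, 0, 0, 1, 0, 0, 0, 0, 0, 0, 0, 1, 0, 0, 0, 1, 0, 0, 0, 1, 0, 0, 0, 0, 0, 0, 0, 1, 0, 0, 0, 0, 0, 0, 0, 1, 0, 0, 0, 0, 0, 0, 0, 1],
    [1, 0, 0, 0, 0, 0, 0, 0, 1, 0, 0, 0, 0, 0, 0, 0, 1, 0, 0, 0, 0, 0, 0, 0, 1, 0, 0, 0, 0, 0, 0, 0, 1, 0, 0, 0, 0, 0, 0, 0, 1, 0, 0, 0, 0, 0, 0, 0, 1],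
    [1, 0, 0, 1, 0, 0, 2, 0, 1, 0, 0, 1, 0, 0, 0, 0, 1, 0, 0, 2, 0, 0, 0, 0, 1, 0, 0, 1, 0, 0, 0, 0, 1, 0, 0, 0, 0, 0, 0, 0, 1, 0, 0, 0, 0, 0, 0, 0, 1],
    [1, 0, 0, 2, 0, 0, 2, 0, 1, 0, 0, 2, 0, 0, 0, 0, 1, 0, 0, 1, 0, 0, 0, 0, 1, 0, 0, 2, 0, 0, 0, 0, 1, 0, 0, 0, 0, 0, 0, 0, 1, 0, 0, 0, 0, 0, 0, 0, 1],
    [1, 0, 0, 0, 0, 0, 0, 0, 1, 0, 0, 0, 0, 0, 0, 0, 1, 0, 0, 0, 0, 0, 0, 0, 1, 0, 0, 0, 0, 0, 0, 0, 1, 0, 0, 0, 0, 0, 0, 0, 1, 0, 0, 0, 0, 0, 0, 0, 1],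
    [1, 0, 1, 0, 0, 0, 0, 0, 1, 0, 2, 0, 2, 0, 0, 0, 1, 0, 0, 0, 0, 0, 0, 0, 1, 0, 2, 0, 0, 0, 0, 0, 1, 0, 2, 0, 0, 0, 0, 0, 1, 0, 0, 0, 0, 0, 0, 0, 1],
    [1, 0, 2, 0, 0, 0, 0, 0, 1, 0, 1, 0, 2, 0, 0, 0, 1, 0, 0, 0, 0, 0, 0, 0, 1, 0, 1, 0, 0, 0, 0, 0, 1, 0, 1, 0, 0, 0, 0, 0, 1, 0, 0, 0, 0, 0, 0, 0, 1],
    [1, 0, 0, 0, 0, 0, 0, 0, 1, 0, 0, 0, 0, 0, 0, 0, 1, 0, 0, 0, 0, 0, 0, 0, 1, 0, 0, 0, 0, 0, 0, 0, 1, 0, 0, 0, 0, 0, 0, 0, 1, 0, 0, 0, 0, 0, 0, 0, 1],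
    [1, 2, 0, 0, 0, 0, 0, 0, 1, 0, 0, 0, 0, 0, 0, 0, 1, 2, 2, 0, 0, 0, 0, 0, 1, 2, 0, 0, 0, 0, 0, 0, 1, 0, 0, 0, 0, 0, 0, 0, 1, 1, 0, 0, 0, 0, 0, 0, 1],
    [1, 1, 0, 0, 0, 0, 0, 0, 1, 0, 0, 0, 0, 0, 0, 0, 1, 1, 2, 0, 0, 0, 0, 0, 1, 1, 0, 0, 0, 0, 0, 0, 1, 0, 0, 0, 0, 0, 0, 0, 1, 2, 0, 0, 0, 0, 0, 0, 1],
    [1, 0, 0, 0, 0, 0, 0, 0, 1, 0, 0, 0, 0, 0, 0, 0, 1, 0, 0, 0, 0, 0, 0, 0, 1, 0, 0, 0, 0, 0, 0, 0, 1, 0, 0, 0, 0, 0, 0, 0, 1, 0, 0, 0, 0, 0, 0, 0, 1],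
    [1, 0, 0, 0, 0, 0, 0, 0, 1, 2, 0, 0, 0, 0, 0, 0, 1, 0, 0, 0, 0, 0, 0, 0, 1, 0, 0, 0, 0, 0, 0, 0, 1, 1, 0, 0, 0, 0, 0, 0, 1, 0, 0, 0, 0, 0, 0, 0, 1],
    [1, 0, 0, 0, 0, 0, 0, 0, 1, 1, 0, 0, 0, 0, 0, 0, 1, 0, 0, 0, 0, 0, 0, 0, 1, 0, 0, 0, 0, 0, 0, 0, 1, 2, 0, 0, 0, 0, 0, 0, 1, 0, 0, 0, 0, 0, 0, 0, 1],
    [1, 0, 0, 0, 0, 0, 0, 0, 1, 0, 0, 0, 0, 0, 0, 0, 1, 0, 0, 0, 0, 0, 0, 0, 1, 0, 0, 0, 0, 0, 0, 0, 1, 0, 0, 0, 0, 0, 0, 0, 1, 0, 0, 0, 0, 0, 0, 0, 1],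
    [1, 0, 0, 0, 0, 0, 0, 0, 1, 0, 0, 0, 0, 0, 0, 2, 1, 0, 0, 0, 0, 0, 0, 0, 1, 0, 0, 0, 0, 0, 0, 0, 1, 0, 0, 0, 0, 0, 0, 1, 1, 0, 0, 0, 0, 0, 0, 0, 1],
    [1, 0, 0, 0, 0, 0, 0, 0, 1, 0, 0, 0, 0, 0, 0, 1, 1, 0, 0, 0, 0, 0, 0, 0, 1, 0, 0, 0, 0, 0, 0, 0, 1, 0, 0, 0, 0, 0, 0, 2, 1, 0, 0, 0, 0, 0, 0, 0, 1],
    [1, 0, 0, 0, 0, 0, 0, 0, 1, 0, 0, 0, 0, 0, 0, 0, 1, 0, 0, 0, 0, 0, 0, 0, 1, 0, 0, 0, 0, 0, 0, 0, 1, 0, 0, 0, 0, 0, 0, 0, 1, 0, 0, 0, 0, 0, 0, 0, 1],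
    [1, 0, 0, 0, 0, 0, 0, 2, 1, 0, 0, 0, 0, 0, 0, 0, 1, 0, 0, 0, 0, 0, 0, 1, 1, 0, 0, 0, 0, 0, 2, 1, 1, 0, 0, 0, 0, 0, 0, 0, 1, 0, 0, 0, 0, 0, 0, 1, 1],
    [1, 0, 0, 0, 0, 0, 0, 1, 1, 0, 0, 0, 0, 0, 0, 0, 1, 0, 0, 0, 0, 0, 0, 2, 1, 0, 0, 0, 0, 0, 2, 2, 1, 0, 0, 0, 0, 0, 0, 0, 1, 0, 0, 0, 0, 0, 0, 2, 1],
    [1, 0, 0, 0, 0, 0, 0, 0, 1, 0, 0, 0, 0, 0, 0, 0, 1, 0, 0, 0, 0, 0, 0, 0, 1, 0, 0, 0, 0, 0, 0, 0, 1, 0, 0, 0, 0, 0, 0, 0, 1, 0, 0, 0, 0, 0, 0, 0, 1],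
    [1, 0, 0, 0, 0, 0, 0, 0, 1, 0, 0, 0, 0, 0, 1, 0, 1, 0, 0, 0, 0, 0, 1, 0, 1, 0, 0, 0, 0, 0, 0, 0, 1, 0, 0, 0, 2, 0, 1, 0, 1, 0, 0, 0, 0, 0, 2, 0, 1],
    [1, 0, 0, 0, 0, 0, 0, 0, 1, 0, 0, 0, 0, 0, 2, 0, 1, 0, 0, 0, 0, 0, 2, 0, 1, 0, 0, 0, 0, 0, 0, 0, 1, 0, 0, 0, 2, 0, 2, 0, 1, 0, 0, 0, 0, 0, 1, 0, 1],
    [1, 0, 0, 0, 0, 0, 0, 0, 1, 0, 0, 0, 0, 0, 0, 0, 1, 0, 0, 0, 0, 0, 0, 0, 1, 0, 0, 0, 0, 0, 0, 0, 1, 0, 0, 0, 0, 0, 0, 0, 1, 0, 0, 0, 0, 0, 0, 0, 1],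
    [1, 0, 0, 0, 0, 0, 0, 0, 1, 0, 0, 0, 0, 0, 0, 0, 1, 0, 0, 0, 0, 2, 0, 0, 1, 0, 0, 0, 0, 1, 0, 0, 1, 0, 0, 0, 0, 2, 0, 0, 1, 0, 2, 0, 0, 2, 0, 0, 1],
    [1, 0, 0, 0, 0, 0, 0, 0, 1, 0, 0, 0, 0, 0, 0, 0, 1, 0, 0, 0, 0, 1, 0, 0, 1, 0, 0, 0, 0, 2, 0, 0, 1, 0, 0, 0, 0, 1, 0, 0, 1, 0, 2, 0, 0, 1, 0, 0, 1],
    [1, 0, 0, 0, 0, 0, 0, 0, 1, 0, 0, 0, 0, 0, 0, 0, 1, 0, 0, 0, 0, 0, 0, 0, 1, 0, 0, 0, 0, 0, 0, 0, 1, 0, 0, 0, 0, 0, 0, 0, 1, 0, 0, 0, 0, 0, 0, 0, 1],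
    [1, 0, 0, 0, 0, 0, 0, 0, 1, 0, 0, 0, 0, 0, 0, 0, 1, 0, 0, 0, 0, 0, 0, 0, 1, 0, 0, 0, 1, 0, 0, 0, 1, 0, 0, 0, 0, 0, 0, 0, 1, 0, 0, 0, 2, 0, 0, 0, 1],
    [1, 0, 0, 0, 0, 0, 0, 0, 1, 0, 0, 0, 0, 0, 0, 0, 1, 0, 0, 0, 0, 0, 0, 0, 1, 0, 0, 0, 2, 0, 0, 0, 1, 0, 0, 0, 0, 0, 0, 0, 1, 0, 0, 0, 1, 0, 0, 0, 1],
    [1, 0, 0, 0, 0, 0, 0, 0, 1, 0, 0, 0, 0, 0, 0, 0, 1, 0, 0, 0, 0, 0, 0, 0, 1, 0, 0, 0, 0, 0, 0, 0, 1, 0, 0, 0, 0, 0, 0, 0, 1, 0, 0, 0, 0, 0, 0, 0, 1],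
    [1, 0, 0, 0, 0, 0, 0, 0, 1, 0, 0, 0, 0, 0, 0, 0, 1, 0, 0, 0, 0, 0, 0, 0, 1, 0, 0, 0, 0, 0, 0, 0, 1, 0, 0, 1, 0, 0, 0, 0, 1, 0, 0, 2, 0, 0, 0, 0, 1],
    [1, 0, 0, 0, 0, 0, 0, 0, 1, 0, 0, 0, 0, 0, 0, 0, 1, 0, 0, 0, 0, 0, 0, 0, 1, 0, 0, 0, 0, 0, 0, 0, 1, 0, 0, 2, 0, 0, 0, 0, 1, 0, 0, 1, 0, 0, 0, 0, 1]]

def sylGens : List (List ℕ) :=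
  [[0, 1, 0, 0, 0, 0, 0, 2, 0, 0, 0, 0, 0, 0, 0, 0, 0, 0, 2, 0, 0, 0, 0, 0, 2, 0, 0, 0, 0, 0, 2, 0, 0, 0, 0, 0, 0, 0, 0, 0, 0, 2, 0, 0, 0, 0, 0, 1, 0],
    [1, 1, 0, 0, 0, 0, 0, 1, 2, 0, 0, 0, 0, 0, 0, 0, 1, 1, 2, 0, 0, 0, 0, 2, 0, 2, 0, 0, 0, 0, 2, 1, 1, 0, 0, 0, 0, 0, 0, 0, 1, 2, 0, 0, 0, 0, 0, 2, 2],
    [0, 0, 0, 0, 0, 2, 0, 0, 0, 0, 0, 0, 0, 1, 0, 0, 1, 0, 0, 0, 0, 0, 0, 0, 1, 0, 0, 0, 0, 0, 0, 0, 1, 0, 0, 1, 0, 0, 0, 0, 0, 0, 0, 2, 0, 0, 0, 0, 0],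
    [1, 0, 0, 0, 0, 2, 0, 0, 1, 0, 0, 0, 0, 1, 0, 0, 1, 0, 0, 0, 0, 0, 0, 0, 1, 0, 0, 0, 0, 0, 0, 0, 1, 0, 0, 2, 0, 0, 0, 0, 2, 0, 0, 1, 0, 0, 0, 0, 2],
    [1, 0, 0, 0, 0, 0, 0, 0, 2, 0, 0, 0, 0, 0, 0, 0, 2, 0, 0, 0, 0, 0, 0, 0, 1, 0, 0, 0, 0, 0, 0, 0, 2, 0, 0, 0, 0, 0, 0, 0, 2, 0, 0, 0, 0, 0, 0, 0, 1]]

def sylGenWords : List (List (ℕ × ℕ)) :=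
  [[(7, 1), (4, 2), (7, 1)],
    [(7, 1), (7, 1), (4, 2), (7, 1), (7, 2)],
    [(11, 1), (0, 2), (11, 1)],
    [(11, 1), (11, 1), (0, 2), (11, 1), (11, 2)],
    [(6, 1), (5, 2), (6, 1), (6, 1), (5, 2), (6, 1)]]

def sylElems : List (List ℕ) :=
  [[1, 0, 0, 0, 0, 0, 0, 0, 1, 0, 0, 0, 0, 0, 0, 0, 1, 0, 0, 0, 0, 0, 0, 0, 1, 0, 0, 0, 0, 0, 0, 0, 1, 0, 0, 0, 0, 0, 0, 0, 1, 0, 0, 0, 0, 0, 0, 0, 1],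
    [0, 1, 0, 0, 0, 0, 0, 2, 0, 0, 0, 0, 0, 0, 0, 0, 0, 0, 2, 0, 0, 0, 0, 0, 2, 0, 0, 0, 0, 0, 2, 0, 0, 0, 0, 0, 0, 0, 0, 0, 0, 2, 0, 0, 0, 0, 0, 1, 0],
    [1, 1, 0, 0, 0, 0, 0, 1, 2, 0, 0, 0, 0, 0, 0, 0, 1, 1, 2, 0, 0, 0, 0, 2, 0, 2, 0, 0, 0, 0, 2, 1, 1, 0, 0, 0, 0, 0, 0, 0, 1, 2, 0, 0, 0, 0, 0, 2, 2],
    [0, 0, 0, 0, 0, 2, 0, 0, 0, 0, 0, 0, 0, 1, 0, 0, 1, 0, 0, 0, 0, 0, 0, 0, 1, 0, 0, 0, 0, 0, 0, 0, 1, 0, 0, 1, 0, 0, 0, 0, 0, 0, 0, 2, 0, 0, 0, 0, 0],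
    [1, 0, 0, 0, 0, 2, 0, 0, 1, 0, 0, 0, 0, 1, 0, 0, 1, 0, 0, 0, 0, 0, 0, 0, 1, 0, 0, 0, 0, 0, 0, 0, 1, 0, 0, 2, 0, 0, 0, 0, 2, 0, 0, 1, 0, 0, 0, 0, 2],
    [1, 0, 0, 0, 0, 0, 0, 0, 2, 0, 0, 0, 0, 0, 0, 0, 2, 0, 0, 0, 0, 0, 0, 0, 1, 0, 0, 0, 0, 0, 0, 0, 2, 0, 0, 0, 0, 0, 0, 0, 2, 0, 0, 0, 0, 0, 0, 0, 1],
    [2, 0, 0, 0, 0, 0, 0, 0, 2, 0, 0, 0, 0, 0, 0, 0, 1, 0, 0, 0, 0, 0, 0, 0, 1, 0, 0, 0, 0, 0, 0, 0, 1, 0, 0, 0, 0, 0, 0, 0, 2, 0, 0, 0, 0, 0, 0, 0, 2],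
    [2, 1, 0, 0, 0, 0, 0, 1, 1, 0, 0, 0, 0, 0, 0, 0, 1, 2, 2, 0, 0, 0, 0, 1, 0, 1, 0, 0, 0, 0, 2, 2, 1, 0, 0, 0, 0, 0, 0, 0, 2, 2, 0, 0, 0, 0, 0, 2, 1],
    [0, 0, 0, 0, 0, 0, 1, 0, 0, 0, 0, 0, 1, 0, 0, 0, 0, 0, 2, 0, 0, 0, 0, 0, 2, 0, 0, 0, 0, 0, 2, 0, 0, 0, 0, 0, 1, 0, 0, 0, 0, 0, 1, 0, 0, 0, 0, 0, 0],
    [0, 1, 0, 0, 0, 0, 1, 2, 0, 0, 0, 0, 1, 0, 0, 0, 0, 0, 2, 0, 0, 0, 0, 0, 2, 0, 0, 0, 0, 0, 2, 0, 0, 0, 0, 0, 2, 0, 0, 0, 0, 1, 2, 0, 0, 0, 0, 2, 0],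
    [0, 1, 0, 0, 0, 0, 0, 1, 0, 0, 0, 0, 0, 0, 0, 0, 0, 0, 1, 0, 0, 0, 0, 0, 2, 0, 0, 0, 0, 0, 1, 0, 0, 0, 0, 0, 0, 0, 0, 0, 0, 1, 0, 0, 0, 0, 0, 1, 0],
    [1, 2, 0, 0, 0, 0, 0, 2, 2, 0, 0, 0, 0, 0, 0, 0, 1, 2, 2, 0, 0, 0, 0, 1, 0, 1, 0, 0, 0, 0, 2, 2, 1, 0, 0, 0, 0, 0, 0, 0, 1, 1, 0, 0, 0, 0, 0, 1, 2],
    [0, 0, 0, 0, 0, 2, 1, 0, 0, 0, 0, 0, 2, 2, 0, 0, 1, 1, 2, 0, 0, 0, 0, 2, 0, 2, 0, 0, 0, 0, 2, 1, 1, 0, 0, 1, 1, 0, 0, 0, 0, 0, 2, 1, 0, 0, 0, 0, 0],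
    [1, 1, 0, 0, 0, 2, 1, 1, 2, 0, 0, 0, 2, 2, 0, 0, 1, 1, 2, 0, 0, 0, 0, 2, 0, 2, 0, 0, 0, 0, 2, 1, 1, 0, 0, 2, 2, 0, 0, 0, 2, 1, 1, 2, 0, 0, 0, 1, 1],
    [1, 1, 0, 0, 0, 0, 0, 2, 1, 0, 0, 0, 0, 0, 0, 0, 2, 2, 1, 0, 0, 0, 0, 2, 0, 2, 0, 0, 0, 0, 1, 2, 2, 0, 0, 0, 0, 0, 0, 0, 2, 1, 0, 0, 0, 0, 0, 2, 2],
    [2, 0, 0, 0, 0, 2, 0, 0, 2, 0, 0, 0, 0, 1, 0, 0, 1, 0, 0, 0, 0, 0, 0, 0, 1, 0, 0, 0, 0, 0, 0, 0, 1, 0, 0, 2, 0, 0, 0, 0, 1, 0, 0, 1, 0, 0, 0, 0, 1],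
    [0, 0, 0, 0, 0, 2, 0, 0, 0, 0, 0, 0, 0, 2, 0, 0, 2, 0, 0, 0, 0, 0, 0, 0, 1, 0, 0, 0, 0, 0, 0, 0, 2, 0, 0, 2, 0, 0, 0, 0, 0, 0, 0, 2, 0, 0, 0, 0, 0],
    [1, 0, 0, 0, 0, 1, 0, 0, 1, 0, 0, 0, 0, 2, 0, 0, 1, 0, 0, 0, 0, 0, 0, 0, 1, 0, 0, 0, 0, 0, 0, 0, 1, 0, 0, 1, 0, 0, 0, 0, 2, 0, 0, 2, 0, 0, 0, 0, 2],
    [1, 0, 0, 0, 0, 2, 0, 0, 2, 0, 0, 0, 0, 2, 0, 0, 2, 0, 0, 0, 0, 0, 0, 0, 1, 0, 0, 0, 0, 0, 0, 0, 2, 0, 0, 1, 0, 0, 0, 0, 1, 0, 0, 1, 0, 0, 0, 0, 2],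
    [0, 2, 0, 0, 0, 0, 0, 2, 0, 0, 0, 0, 0, 0, 0, 0, 0, 0, 1, 0, 0, 0, 0, 0, 2, 0, 0, 0, 0, 0, 1, 0, 0, 0, 0, 0, 0, 0, 0, 0, 0, 2, 0, 0, 0, 0, 0, 2, 0],
    [1, 2, 0, 0, 0, 0, 0, 1, 1, 0, 0, 0, 0, 0, 0, 0, 2, 1, 1, 0, 0, 0, 0, 1, 0, 1, 0, 0, 0, 0, 1, 1, 2, 0, 0, 0, 0, 0, 0, 0, 2, 2, 0, 0, 0, 0, 0, 1, 2],
    [0, 0, 0, 0, 0, 1, 0, 0, 0, 0, 0, 0, 0, 1, 0, 0, 2, 0, 0, 0, 0, 0, 0, 0, 1, 0, 0, 0, 0, 0, 0, 0, 2, 0, 0, 1, 0, 0, 0, 0, 0, 0, 0, 1, 0, 0, 0, 0, 0],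
    [1, 0, 0, 0, 0, 1, 0, 0, 2, 0, 0, 0, 0, 1, 0, 0, 2, 0, 0, 0, 0, 0, 0, 0, 1, 0, 0, 0, 0, 0, 0, 0, 2, 0, 0, 2, 0, 0, 0, 0, 1, 0, 0, 2, 0, 0, 0, 0, 2],
    [0, 2, 0, 0, 0, 0, 0, 1, 0, 0, 0, 0, 0, 0, 0, 0, 0, 0, 2, 0, 0, 0, 0, 0, 2, 0, 0, 0, 0, 0, 2, 0, 0, 0, 0, 0, 0, 0, 0, 0, 0, 1, 0, 0, 0, 0, 0, 2, 0],
    [2, 2, 0, 0, 0, 0, 0, 2, 1, 0, 0, 0, 0, 0, 0, 0, 1, 1, 2, 0, 0, 0, 0, 2, 0, 2, 0, 0, 0, 0, 2, 1, 1, 0, 0, 0, 0, 0, 0, 0, 2, 1, 0, 0, 0, 0, 0, 1, 1],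
    [0, 0, 0, 0, 0, 1, 0, 0, 0, 0, 0, 0, 0, 2, 0, 0, 1, 0, 0, 0, 0, 0, 0, 0, 1, 0, 0, 0, 0, 0, 0, 0, 1, 0, 0, 2, 0, 0, 0, 0, 0, 0, 0, 1, 0, 0, 0, 0, 0],
    [2, 0, 0, 0, 0, 1, 0, 0, 2, 0, 0, 0, 0, 2, 0, 0, 1, 0, 0, 0, 0, 0, 0, 0, 1, 0, 0, 0, 0, 0, 0, 0, 1, 0, 0, 1, 0, 0, 0, 0, 1, 0, 0, 2, 0, 0, 0, 0, 1],
    [2, 0, 0, 0, 0, 0, 0, 0, 1, 0, 0, 0, 0, 0, 0, 0, 2, 0, 0, 0, 0, 0, 0, 0, 1, 0, 0, 0, 0, 0, 0, 0, 2, 0, 0, 0, 0, 0, 0, 0, 1, 0, 0, 0, 0, 0, 0, 0, 2],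
    [0, 0, 0, 0, 0, 1, 1, 0, 0, 0, 0, 0, 2, 1, 0, 0, 1, 2, 2, 0, 0, 0, 0, 1, 0, 1, 0, 0, 0, 0, 2, 2, 1, 0, 0, 2, 1, 0, 0, 0, 0, 0, 2, 2, 0, 0, 0, 0, 0],
    [2, 1, 0, 0, 0, 1, 1, 1, 1, 0, 0, 0, 2, 1, 0, 0, 1, 2, 2, 0, 0, 0, 0, 1, 0, 1, 0, 0, 0, 0, 2, 2, 1, 0, 0, 1, 2, 0, 0, 0, 1, 1, 1, 1, 0, 0, 0, 1, 2],
    [2, 1, 0, 0, 0, 0, 0, 2, 2, 0, 0, 0, 0, 0, 0, 0, 2, 1, 1, 0, 0, 0, 0, 1, 0, 1, 0, 0, 0, 0, 1, 1, 2, 0, 0, 0, 0, 0, 0, 0, 1, 1, 0, 0, 0, 0, 0, 2, 1],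
    [0, 2, 0, 0, 0, 0, 1, 1, 0, 0, 0, 0, 1, 0, 0, 0, 0, 0, 2, 0, 0, 0, 0, 0, 2, 0, 0, 0, 0, 0, 2, 0, 0, 0, 0, 0, 2, 0, 0, 0, 0, 2, 2, 0, 0, 0, 0, 1, 0],
    [0, 0, 0, 0, 0, 0, 1, 0, 0, 0, 0, 0, 2, 0, 0, 0, 0, 0, 1, 0, 0, 0, 0, 0, 2, 0, 0, 0, 0, 0, 1, 0, 0, 0, 0, 0, 2, 0, 0, 0, 0, 0, 1, 0, 0, 0, 0, 0, 0],
    [0, 1, 0, 0, 0, 0, 2, 2, 0, 0, 0, 0, 2, 0, 0, 0, 0, 0, 2, 0, 0, 0, 0, 0, 2, 0, 0, 0, 0, 0, 2, 0, 0, 0, 0, 0, 1, 0, 0, 0, 0, 1, 1, 0, 0, 0, 0, 2, 0],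
    [0, 1, 0, 0, 0, 0, 1, 1, 0, 0, 0, 0, 2, 0, 0, 0, 0, 0, 1, 0, 0, 0, 0, 0, 2, 0, 0, 0, 0, 0, 1, 0, 0, 0, 0, 0, 1, 0, 0, 0, 0, 2, 2, 0, 0, 0, 0, 2, 0],
    [0, 0, 0, 0, 0, 0, 2, 0, 0, 0, 0, 0, 1, 0, 0, 0, 0, 0, 1, 0, 0, 0, 0, 0, 2, 0, 0, 0, 0, 0, 1, 0, 0, 0, 0, 0, 1, 0, 0, 0, 0, 0, 2, 0, 0, 0, 0, 0, 0],
    [0, 1, 0, 0, 0, 0, 2, 1, 0, 0, 0, 0, 1, 0, 0, 0, 0, 0, 1, 0, 0, 0, 0, 0, 2, 0, 0, 0, 0, 0, 1, 0, 0, 0, 0, 0, 2, 0, 0, 0, 0, 2, 1, 0, 0, 0, 0, 2, 0],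
    [0, 0, 0, 0, 0, 2, 2, 0, 0, 0, 0, 0, 1, 2, 0, 0, 1, 2, 2, 0, 0, 0, 0, 1, 0, 1, 0, 0, 0, 0, 2, 2, 1, 0, 0, 1, 2, 0, 0, 0, 0, 0, 1, 1, 0, 0, 0, 0, 0],
    [1, 2, 0, 0, 0, 2, 2, 2, 2, 0, 0, 0, 1, 2, 0, 0, 1, 2, 2, 0, 0, 0, 0, 1, 0, 1, 0, 0, 0, 0, 2, 2, 1, 0, 0, 2, 1, 0, 0, 0, 2, 2, 2, 2, 0, 0, 0, 2, 1],
    [2, 2, 0, 0, 0, 2, 1, 2, 1, 0, 0, 0, 2, 2, 0, 0, 1, 1, 2, 0, 0, 0, 0, 2, 0, 2, 0, 0, 0, 0, 2, 1, 1, 0, 0, 2, 2, 0, 0, 0, 1, 2, 1, 2, 0, 0, 0, 2, 2],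
    [0, 0, 0, 0, 0, 2, 1, 0, 0, 0, 0, 0, 1, 1, 0, 0, 2, 2, 1, 0, 0, 0, 0, 2, 0, 2, 0, 0, 0, 0, 1, 2, 2, 0, 0, 2, 2, 0, 0, 0, 0, 0, 2, 1, 0, 0, 0, 0, 0],
    [1, 1, 0, 0, 0, 1, 2, 1, 2, 0, 0, 0, 1, 1, 0, 0, 1, 1, 2, 0, 0, 0, 0, 2, 0, 2, 0, 0, 0, 0, 2, 1, 1, 0, 0, 1, 1, 0, 0, 0, 2, 1, 2, 1, 0, 0, 0, 1, 1],
    [1, 1, 0, 0, 0, 2, 1, 2, 1, 0, 0, 0, 1, 1, 0, 0, 2, 2, 1, 0, 0, 0, 0, 2, 0, 2, 0, 0, 0, 0, 1, 2, 2, 0, 0, 1, 1, 0, 0, 0, 1, 2, 1, 2, 0, 0, 0, 1, 1],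
    [0, 0, 0, 0, 0, 1, 2, 0, 0, 0, 0, 0, 2, 2, 0, 0, 2, 2, 1, 0, 0, 0, 0, 2, 0, 2, 0, 0, 0, 0, 1, 2, 2, 0, 0, 1, 1, 0, 0, 0, 0, 0, 1, 2, 0, 0, 0, 0, 0],
    [1, 1, 0, 0, 0, 1, 2, 2, 1, 0, 0, 0, 2, 2, 0, 0, 2, 2, 1, 0, 0, 0, 0, 2, 0, 2, 0, 0, 0, 0, 1, 2, 2, 0, 0, 2, 2, 0, 0, 0, 1, 2, 2, 1, 0, 0, 0, 1, 1],
    [2, 0, 0, 0, 0, 2, 0, 0, 1, 0, 0, 0, 0, 2, 0, 0, 2, 0, 0, 0, 0, 0, 0, 0, 1, 0, 0, 0, 0, 0, 0, 0, 2, 0, 0, 1, 0, 0, 0, 0, 2, 0, 0, 1, 0, 0, 0, 0, 1],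
    [0, 0, 0, 0, 0, 2, 2, 0, 0, 0, 0, 0, 2, 1, 0, 0, 2, 1, 1, 0, 0, 0, 0, 1, 0, 1, 0, 0, 0, 0, 1, 1, 2, 0, 0, 2, 1, 0, 0, 0, 0, 0, 1, 1, 0, 0, 0, 0, 0],
    [0, 2, 0, 0, 0, 0, 2, 2, 0, 0, 0, 0, 1, 0, 0, 0, 0, 0, 1, 0, 0, 0, 0, 0, 2, 0, 0, 0, 0, 0, 1, 0, 0, 0, 0, 0, 2, 0, 0, 0, 0, 1, 1, 0, 0, 0, 0, 1, 0],
    [1, 2, 0, 0, 0, 2, 2, 1, 1, 0, 0, 0, 2, 1, 0, 0, 2, 1, 1, 0, 0, 0, 0, 1, 0, 1, 0, 0, 0, 0, 1, 1, 2, 0, 0, 1, 2, 0, 0, 0, 1, 1, 2, 2, 0, 0, 0, 2, 1],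
    [2, 2, 0, 0, 0, 0, 0, 1, 2, 0, 0, 0, 0, 0, 0, 0, 2, 2, 1, 0, 0, 0, 0, 2, 0, 2, 0, 0, 0, 0, 1, 2, 2, 0, 0, 0, 0, 0, 0, 0, 1, 2, 0, 0, 0, 0, 0, 1, 1],
    [0, 2, 0, 0, 0, 0, 1, 2, 0, 0, 0, 0, 2, 0, 0, 0, 0, 0, 1, 0, 0, 0, 0, 0, 2, 0, 0, 0, 0, 0, 1, 0, 0, 0, 0, 0, 1, 0, 0, 0, 0, 1, 2, 0, 0, 0, 0, 1, 0],
    [0, 0, 0, 0, 0, 1, 1, 0, 0, 0, 0, 0, 1, 2, 0, 0, 2, 1, 1, 0, 0, 0, 0, 1, 0, 1, 0, 0, 0, 0, 1, 1, 2, 0, 0, 1, 2, 0, 0, 0, 0, 0, 2, 2, 0, 0, 0, 0, 0],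
    [1, 2, 0, 0, 0, 1, 1, 1, 1, 0, 0, 0, 1, 2, 0, 0, 2, 1, 1, 0, 0, 0, 0, 1, 0, 1, 0, 0, 0, 0, 1, 1, 2, 0, 0, 2, 1, 0, 0, 0, 1, 1, 1, 1, 0, 0, 0, 2, 1],
    [2, 0, 0, 0, 0, 1, 0, 0, 1, 0, 0, 0, 0, 1, 0, 0, 2, 0, 0, 0, 0, 0, 0, 0, 1, 0, 0, 0, 0, 0, 0, 0, 2, 0, 0, 2, 0, 0, 0, 0, 2, 0, 0, 2, 0, 0, 0, 0, 1],
    [0, 0, 0, 0, 0, 0, 2, 0, 0, 0, 0, 0, 2, 0, 0, 0, 0, 0, 2, 0, 0, 0, 0, 0, 2, 0, 0, 0, 0, 0, 2, 0, 0, 0, 0, 0, 2, 0, 0, 0, 0, 0, 2, 0, 0, 0, 0, 0, 0],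
    [0, 2, 0, 0, 0, 0, 2, 1, 0, 0, 0, 0, 2, 0, 0, 0, 0, 0, 2, 0, 0, 0, 0, 0, 2, 0, 0, 0, 0, 0, 2, 0, 0, 0, 0, 0, 1, 0, 0, 0, 0, 2, 1, 0, 0, 0, 0, 1, 0],
    [0, 0, 0, 0, 0, 1, 2, 0, 0, 0, 0, 0, 1, 1, 0, 0, 1, 1, 2, 0, 0, 0, 0, 2, 0, 2, 0, 0, 0, 0, 2, 1, 1, 0, 0, 2, 2, 0, 0, 0, 0, 0, 1, 2, 0, 0, 0, 0, 0],
    [2, 2, 0, 0, 0, 1, 2, 2, 1, 0, 0, 0, 1, 1, 0, 0, 1, 1, 2, 0, 0, 0, 0, 2, 0, 2, 0, 0, 0, 0, 2, 1, 1, 0, 0, 1, 1, 0, 0, 0, 1, 2, 2, 1, 0, 0, 0, 2, 2],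
    [1, 2, 0, 0, 0, 1, 1, 2, 2, 0, 0, 0, 2, 1, 0, 0, 1, 2, 2, 0, 0, 0, 0, 1, 0, 1, 0, 0, 0, 0, 2, 2, 1, 0, 0, 1, 2, 0, 0, 0, 2, 2, 1, 1, 0, 0, 0, 2, 1],
    [2, 1, 0, 0, 0, 2, 2, 1, 1, 0, 0, 0, 1, 2, 0, 0, 1, 2, 2, 0, 0, 0, 0, 1, 0, 1, 0, 0, 0, 0, 2, 2, 1, 0, 0, 2, 1, 0, 0, 0, 1, 1, 2, 2, 0, 0, 0, 1, 2],
    [2, 1, 0, 0, 0, 1, 1, 2, 2, 0, 0, 0, 1, 2, 0, 0, 2, 1, 1, 0, 0, 0, 0, 1, 0, 1, 0, 0, 0, 0, 1, 1, 2, 0, 0, 2, 1, 0, 0, 0, 2, 2, 1, 1, 0, 0, 0, 1, 2],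
    [2, 1, 0, 0, 0, 2, 2, 2, 2, 0, 0, 0, 2, 1, 0, 0, 2, 1, 1, 0, 0, 0, 0, 1, 0, 1, 0, 0, 0, 0, 1, 1, 2, 0, 0, 1, 2, 0, 0, 0, 2, 2, 2, 2, 0, 0, 0, 1, 2],
    [2, 2, 0, 0, 0, 2, 1, 1, 2, 0, 0, 0, 1, 1, 0, 0, 2, 2, 1, 0, 0, 0, 0, 2, 0, 2, 0, 0, 0, 0, 1, 2, 2, 0, 0, 1, 1, 0, 0, 0, 2, 1, 1, 2, 0, 0, 0, 2, 2],
    [2, 2, 0, 0, 0, 1, 2, 1, 2, 0, 0, 0, 2, 2, 0, 0, 2, 2, 1, 0, 0, 0, 0, 2, 0, 2, 0, 0, 0, 0, 1, 2, 2, 0, 0, 2, 2, 0, 0, 0, 2, 1, 2, 1, 0, 0, 0, 2, 2]]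

def sylWords : List (List ℕ) :=
  [[],
    [0],
    [1],
    [2],
    [3],
    [4],
    [0, 0],
    [1, 0],
    [2, 0],
    [3, 0],
    [4, 0],
    [0, 1],
    [2, 1],
    [3, 1],
    [4, 1],
    [3, 2],
    [4, 2],
    [2, 3],
    [4, 3],
    [0, 4],
    [1, 4],
    [2, 4],
    [3, 4],
    [0, 0, 0],
    [1, 0, 0],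
    [2, 0, 0],
    [3, 0, 0],
    [4, 0, 0],
    [2, 1, 0],
    [3, 1, 0],
    [4, 1, 0],
    [3, 2, 0],
    [4, 2, 0],
    [2, 3, 0],
    [4, 3, 0],
    [2, 4, 0],
    [3, 4, 0],
    [2, 0, 1],
    [3, 0, 1],
    [3, 2, 1],
    [4, 2, 1],
    [2, 3, 1],
    [4, 3, 1],
    [2, 4, 1],
    [3, 4, 1],
    [4, 3, 2],
    [1, 4, 2],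
    [0, 4, 3],
    [1, 4, 3],
    [1, 0, 4],
    [3, 0, 4],
    [2, 1, 4],
    [3, 1, 4],
    [3, 2, 4],
    [2, 0, 0, 0],
    [3, 0, 0, 0],
    [2, 1, 0, 0],
    [3, 1, 0, 0],
    [3, 2, 1, 0],
    [2, 3, 1, 0],
    [4, 3, 1, 0],
    [3, 4, 1, 0],
    [4, 3, 2, 1],
    [3, 2, 4, 1]]

/-- The invariant symmetric form. -/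
def formL : List ℕ :=
  [0, 0, 0, 0, 0, 0, 1, 0, 0, 0, 0, 0, 1, 0, 0, 0, 0, 0, 1, 0, 0, 0, 0, 0, 2, 0, 0, 0, 0, 0, 1, 0, 0, 0, 0, 0, 1, 0, 0, 0, 0, 0, 1, 0, 0, 0, 0, 0, 0]

def word13 : List (ℕ × ℕ) := [(11, 1), (4, 2), (3, 2)]

def mat13 : List ℕ :=
  [1, 1, 2, 1, 0, 2, 0, 0, 1, 0, 1, 0, 2, 0, 0, 0, 1, 1, 2, 1, 2, 0, 0, 0, 1, 1, 1, 1, 0, 0, 0, 0, 1, 0, 1, 1, 1, 2, 1, 0, 0, 2, 0, 2, 0, 2, 0, 1, 1]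

def vec13 : List ℕ := [0, 0, 0, 1, 0, 0, 1]

def inv13 : List ℕ :=
  [2, 1, 2, 0, 0, 2, 1, 1, 1, 1, 1, 0, 1, 2, 1, 2, 1, 1, 1, 1, 2, 2, 1, 1, 0, 0, 0, 0, 1, 0, 1, 2, 1, 0, 1, 1, 2, 0, 0, 0, 2, 0, 1, 1, 1, 0, 1, 0, 0]

def orb13 : List (List ℕ) :=
  [[0, 0, 0, 1, 0, 0, 1],
    [1, 1, 0, 2, 1, 0, 0],
    [1, 0, 1, 0, 1, 1, 0],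
    [2, 2, 1, 2, 1, 0, 1],
    [2, 1, 1, 1, 2, 1, 0],
    [2, 1, 1, 1, 2, 0, 2],
    [0, 2, 1, 2, 1, 1, 0],
    [2, 0, 0, 1, 1, 0, 0],
    [0, 1, 0, 2, 1, 0, 2],
    [0, 0, 2, 2, 0, 1, 2],
    [2, 1, 0, 2, 2, 1, 1],
    [1, 2, 0, 0, 0, 1, 2],
    [2, 1, 2, 0, 2, 1, 1]]

def traces13 : List ℕ := [1, 0, 1, 0, 0, 1, 1]

def pows13 : List (List ℕ) :=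
  [[1, 0, 0, 0, 0, 0, 0, 0, 1, 0, 0, 0, 0, 0, 0, 0, 1, 0, 0, 0, 0, 0, 0, 0, 1, 0, 0, 0, 0, 0, 0, 0, 1, 0, 0, 0, 0, 0, 0, 0, 1, 0, 0, 0, 0, 0, 0, 0, 1],
    [1, 1, 2, 1, 0, 2, 0, 0, 1, 0, 1, 0, 2, 0, 0, 0, 1, 1, 2, 1, 2, 0, 0, 0, 1, 1, 1, 1, 0, 0, 0, 0, 1, 0, 1, 1, 1, 2, 1, 0, 0, 2, 0, 2, 0, 2, 0, 1, 1],
    [0, 1, 2, 1, 2, 1, 0, 2, 0, 1, 1, 1, 0, 2, 1, 2, 0, 1, 2, 1, 0, 1, 0, 2, 1, 2, 2, 2, 0, 2, 0, 2, 1, 1, 2, 1, 0, 1, 0, 2, 0, 1, 1, 2, 2, 1, 2, 1, 2],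
    [1, 2, 1, 2, 1, 2, 0, 2, 0, 2, 2, 1, 2, 0, 2, 1, 1, 2, 0, 1, 2, 0, 1, 2, 1, 1, 1, 1, 1, 1, 2, 0, 0, 2, 1, 1, 0, 0, 1, 1, 1, 2, 2, 2, 0, 2, 1, 2, 2],
    [0, 2, 1, 2, 2, 0, 0, 1, 1, 1, 2, 1, 2, 2, 0, 2, 1, 2, 1, 2, 2, 1, 1, 1, 1, 0, 0, 0, 0, 0, 2, 2, 1, 1, 0, 2, 0, 1, 1, 2, 2, 0, 1, 1, 2, 0, 0, 0, 0],
    [0, 2, 1, 2, 0, 1, 0, 0, 2, 1, 2, 2, 0, 2, 2, 2, 2, 2, 2, 0, 2, 1, 2, 0, 1, 0, 0, 0, 1, 1, 1, 2, 1, 1, 0, 1, 1, 0, 0, 2, 0, 0, 1, 2, 1, 1, 1, 0, 1],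
    [1, 0, 0, 0, 1, 1, 0, 0, 0, 1, 0, 0, 0, 2, 2, 2, 0, 0, 2, 2, 1, 1, 0, 2, 1, 1, 1, 1, 2, 0, 2, 0, 2, 1, 1, 1, 2, 2, 2, 2, 1, 2, 1, 2, 0, 1, 1, 0, 2],
    [2, 2, 1, 2, 1, 2, 0, 0, 1, 1, 2, 2, 0, 1, 1, 2, 2, 2, 2, 0, 1, 2, 1, 0, 1, 0, 0, 0, 0, 2, 2, 1, 0, 1, 0, 2, 2, 0, 0, 2, 0, 0, 1, 1, 2, 2, 2, 0, 1],
    [1, 0, 0, 0, 2, 2, 0, 0, 0, 1, 0, 0, 0, 1, 1, 2, 1, 0, 2, 2, 0, 2, 0, 1, 1, 1, 1, 1, 1, 0, 1, 0, 2, 1, 1, 2, 1, 1, 1, 2, 2, 2, 1, 1, 1, 2, 2, 0, 0],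
    [0, 0, 0, 0, 2, 2, 0, 0, 2, 1, 0, 2, 2, 0, 0, 2, 1, 0, 1, 1, 2, 0, 2, 1, 1, 1, 1, 1, 2, 1, 2, 2, 1, 1, 1, 1, 0, 0, 2, 2, 1, 2, 1, 2, 0, 2, 0, 1, 0],
    [2, 2, 1, 2, 2, 0, 0, 2, 1, 2, 2, 1, 2, 2, 1, 1, 0, 2, 0, 1, 1, 1, 2, 0, 1, 1, 1, 1, 0, 0, 2, 1, 1, 2, 1, 2, 0, 1, 2, 1, 0, 2, 2, 1, 1, 0, 2, 2, 1],
    [2, 1, 2, 1, 0, 2, 0, 1, 0, 1, 1, 1, 0, 1, 2, 2, 1, 1, 2, 1, 2, 2, 0, 1, 1, 2, 2, 2, 2, 1, 0, 1, 0, 1, 2, 2, 0, 2, 0, 2, 0, 1, 1, 1, 0, 2, 1, 2, 0],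
    [1, 2, 1, 2, 2, 0, 0, 1, 0, 0, 2, 1, 2, 2, 0, 0, 1, 2, 2, 0, 0, 1, 2, 0, 1, 2, 2, 2, 0, 2, 0, 0, 1, 0, 2, 2, 1, 0, 0, 0, 1, 1, 0, 1, 0, 0, 0, 0, 1]]

def word7 : List (ℕ × ℕ) := [(0, 1), (11, 1), (2, 1), (5, 2)]

def mat7 : List ℕ :=
  [2, 0, 0, 2, 0, 1, 1, 0, 2, 2, 0, 2, 1, 2, 0, 0, 1, 0, 0, 2, 0, 0, 0, 0, 1, 0, 0, 1, 0, 0, 0, 0, 1, 2, 0, 1, 0, 0, 1, 0, 1, 2, 0, 2, 2, 0, 2, 1, 1]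

def vec7 : List ℕ := [0, 0, 0, 0, 1, 0, 0]

def inv7 : List ℕ :=
  [1, 1, 2, 0, 1, 2, 0, 0, 0, 1, 2, 0, 1, 2, 1, 0, 1, 2, 0, 1, 0, 2, 0, 1, 1, 0, 0, 0, 1, 0, 1, 2, 0, 0, 0, 0, 0, 1, 1, 0, 1, 0, 1, 2, 1, 1, 0, 1, 1]

def orb7 : List (List ℕ) :=
  [[0, 0, 0, 0, 1, 0, 0],
    [0, 2, 0, 0, 1, 0, 2],
    [2, 1, 0, 2, 1, 1, 2],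
    [2, 0, 2, 1, 0, 0, 1],
    [1, 0, 2, 2, 0, 2, 2],
    [1, 1, 0, 1, 1, 0, 2],
    [0, 2, 0, 0, 1, 0, 0],
    [0, 0, 0, 0, 1, 0, 0],
    [0, 2, 0, 0, 1, 0, 2],
    [2, 1, 0, 2, 1, 1, 2],
    [2, 0, 2, 1, 0, 0, 1],
    [1, 0, 2, 2, 0, 2, 2],
    [1, 1, 0, 1, 1, 0, 2]]

def traces7 : List ℕ := [1, 0, 0, 0, 0, 0, 0]

def pows7 : List (List ℕ) :=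
  [[1, 0, 0, 0, 0, 0, 0, 0, 1, 0, 0, 0, 0, 0, 0, 0, 1, 0, 0, 0, 0, 0, 0, 0, 1, 0, 0, 0, 0, 0, 0, 0, 1, 0, 0, 0, 0, 0, 0, 0, 1, 0, 0, 0, 0, 0, 0, 0, 1],
    [2, 0, 0, 2, 0, 1, 1, 0, 2, 2, 0, 2, 1, 2, 0, 0, 1, 0, 0, 2, 0, 0, 0, 0, 1, 0, 0, 1, 0, 0, 0, 0, 1, 2, 0, 1, 0, 0, 1, 0, 1, 2, 0, 2, 2, 0, 2, 1, 1],
    [2, 2, 2, 1, 2, 1, 1, 1, 2, 1, 1, 1, 1, 2, 2, 0, 1, 2, 0, 1, 1, 0, 2, 2, 1, 2, 1, 2, 2, 0, 0, 2, 1, 1, 1, 0, 1, 1, 1, 1, 1, 0, 1, 0, 2, 1, 2, 0, 1],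
    [2, 0, 2, 0, 2, 2, 1, 0, 2, 0, 1, 0, 1, 1, 2, 2, 0, 1, 2, 0, 1, 1, 2, 1, 2, 1, 1, 0, 2, 2, 2, 1, 0, 0, 1, 1, 2, 0, 2, 0, 0, 2, 2, 2, 1, 0, 1, 1, 0],
    [0, 2, 1, 0, 1, 1, 1, 1, 0, 0, 2, 0, 1, 2, 1, 0, 0, 2, 2, 0, 2, 0, 1, 2, 2, 2, 2, 0, 1, 0, 2, 2, 0, 0, 2, 2, 2, 2, 1, 2, 2, 0, 2, 1, 2, 2, 2, 0, 2],
    [1, 0, 1, 1, 1, 2, 1, 0, 1, 1, 2, 1, 1, 1, 2, 1, 1, 1, 0, 1, 2, 2, 2, 1, 1, 1, 2, 2, 2, 1, 0, 1, 1, 1, 2, 0, 1, 0, 1, 0, 2, 2, 1, 0, 2, 0, 2, 1, 2],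
    [1, 2, 0, 2, 0, 2, 1, 1, 1, 2, 0, 2, 1, 1, 2, 0, 1, 0, 0, 2, 0, 0, 2, 0, 1, 0, 0, 1, 2, 0, 0, 0, 1, 2, 0, 2, 0, 0, 0, 0, 2, 0, 0, 1, 0, 0, 0, 0, 2],
    [1, 0, 0, 0, 0, 0, 0, 0, 1, 0, 0, 0, 0, 0, 0, 0, 1, 0, 0, 0, 0, 0, 0, 0, 1, 0, 0, 0, 0, 0, 0, 0, 1, 0, 0, 0, 0, 0, 0, 0, 1, 0, 0, 0, 0, 0, 0, 0, 1],
    [2, 0, 0, 2, 0, 1, 1, 0, 2, 2, 0, 2, 1, 2, 0, 0, 1, 0, 0, 2, 0, 0, 0, 0, 1, 0, 0, 1, 0, 0, 0, 0, 1, 2, 0, 1, 0, 0, 1, 0, 1, 2, 0, 2, 2, 0, 2, 1, 1],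
    [2, 2, 2, 1, 2, 1, 1, 1, 2, 1, 1, 1, 1, 2, 2, 0, 1, 2, 0, 1, 1, 0, 2, 2, 1, 2, 1, 2, 2, 0, 0, 2, 1, 1, 1, 0, 1, 1, 1, 1, 1, 0, 1, 0, 2, 1, 2, 0, 1],
    [2, 0, 2, 0, 2, 2, 1, 0, 2, 0, 1, 0, 1, 1, 2, 2, 0, 1, 2, 0, 1, 1, 2, 1, 2, 1, 1, 0, 2, 2, 2, 1, 0, 0, 1, 1, 2, 0, 2, 0, 0, 2, 2, 2, 1, 0, 1, 1, 0],
    [0, 2, 1, 0, 1, 1, 1, 1, 0, 0, 2, 0, 1, 2, 1, 0, 0, 2, 2, 0, 2, 0, 1, 2, 2, 2, 2, 0, 1, 0, 2, 2, 0, 0, 2, 2, 2, 2, 1, 2, 2, 0, 2, 1, 2, 2, 2, 0, 2],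
    [1, 0, 1, 1, 1, 2, 1, 0, 1, 1, 2, 1, 1, 1, 2, 1, 1, 1, 0, 1, 2, 2, 2, 1, 1, 1, 2, 2, 2, 1, 0, 1, 1, 1, 2, 0, 1, 0, 1, 0, 2, 2, 1, 0, 2, 0, 2, 1, 2]]

def word6 : List (ℕ × ℕ) := [(11, 2), (0, 1)]

def mat6 : List ℕ :=
  [1, 0, 0, 0, 0, 1, 0, 0, 1, 0, 0, 0, 0, 2, 0, 0, 1, 0, 0, 0, 0, 0, 0, 0, 1, 0, 0, 0, 0, 0, 0, 0, 1, 0, 0, 2, 0, 0, 0, 0, 0, 0, 0, 1, 0, 0, 0, 0, 0]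

end Cfsg.Agent.Recognition.G2Three
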