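import Cfsg.Agent.Recognition.G2Three.Rep

/-!
The prime graph of the group of type G₂ over the field with three elements has the single edge `2 — 3`.
-/

set_option autoImplicit false

namespace Cfsg.Agent.Recognition.G2Three

open Cfsg.Lie Matrix

theorem wordG_order {w : List (ℕ × ℕ)} {m : List ℕ} (hw : ∀ p ∈ w, p.1 < chevG2.nroots ∧ p.2 < 3)
    (hm : prodL (w.map rootL) = m) : res (wordG w) = toM m := by
  rw [res_wordG w hw, hm]

/-- The element of order thirteen. -/
noncomputable def g13 : G := wordG word13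

/-- The element of order seven. -/
noncomputable def g7 : G := wordG word7

theorem res_g13 : res g13 = toM mat13 := wordG_order (by decide +kernel) mat13_eq

theorem res_g7 : res g7 = toM mat7 := wordG_order (by decide +kernel) mat7_eq

theorem orderOf_g13 : orderOf g13 = 13 := by
  haveI : Fact (Nat.Prime 13) := ⟨by norm_num⟩
  refine orderOf_eq_prime (res_eq_one.1 ?_) fun h => order13.2 ?_
  · rw [map_pow, res_g13, ← toM_powL, order13.1, toM_oneL]
  · refine toM_inj order6.2.2.2.2.2.2 (by decide +kernel) ?_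
    rw [← res_g13, h, map_one, toM_oneL]

theorem orderOf_g7 : orderOf g7 = 7 := by
  haveI : Fact (Nat.Prime 7) := ⟨by norm_num⟩
  refine orderOf_eq_prime (res_eq_one.1 ?_) fun h => order7.2 ?_
  · rw [map_pow, res_g7, ← toM_powL, order7.1, toM_oneL]
  · refine toM_inj order6.2.2.2.2.2.1 (by decide +kernel) ?_
    rw [← res_g7, h, map_one, toM_oneL]

theorem exists_six : ∃ g : G, orderOf g = 6 := by
  refine ⟨wordG word6, (orderOf_eq_iff (by norm_num)).2 ⟨?_, fun m hm h0 => ?_⟩⟩
  · rw [← res_eq_one, map_pow, wordG_order (by decide +kernel) mat6_eq, ← toM_powL, order6.1, toM_oneL]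
  · rw [Ne, ← res_eq_one, map_pow, wordG_order (by decide +kernel) mat6_eq, ← toM_powL, ← toM_oneL]
    intro h
    have h2 := toM_inj (a := powL mat6 m) (b := oneL) (by interval_cases m <;> decide +kernel) (by decide +kernel) h
    revert h2
    interval_cases m <;> decide +kernel

/-- The generators of a Sylow `2`-subgroup. -/
noncomputable def sylGen (i : ℕ) : G := wordG (sylGenWords.getD i [])

theorem res_sylGen (i : ℕ) (hi : i < sylGens.length) : res (sylGen i) = toM (sylGens.getD i []) := by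
  have hb : ∀ i < sylGens.length, ∀ p ∈ sylGenWords.getD i [], p.1 < chevG2.nroots ∧ p.2 < 3 := by
    decide +kernel
  refine wordG_order (hb i hi) ?_
  have h := congrArg (fun L => L.getD i []) sylGens_eq
  have hl : sylGenWords.length = sylGens.length := by decide +kernel
  have hi' : i < sylGenWords.length := hl.symm ▸ hi
  rw [List.getD_eq_getElem _ _ (by rw [List.length_map]; exact hi'), List.getD_eq_getElem _ _ hi,
    List.getElem_map] at h
  rw [List.getD_eq_getElem _ _ hi', List.getD_eq_getElem _ _ hi]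
  exact h

/-- A Sylow `2`-subgroup. -/
noncomputable def syl : Subgroup G := Subgroup.closure {g | ∃ i, i < sylGens.length ∧ sylGen i = g}

theorem syl_mem (g : syl) : ∃ m ∈ sylElems, res (g : G) = toM m := by
  have h := syl_ok
  simp only [sylOK, Bool.and_eq_true, List.all_eq_true, List.elem_iff] at h
  obtain ⟨g, hg⟩ := g
  have hg' : g ∈ Submonoid.closure {g | ∃ i, i < sylGens.length ∧ sylGen i = g} := by
    rwa [syl, ← Subgroup.mem_toSubmonoid, Subgroup.closure_toSubmonoid_of_finite] at hg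
  show ∃ m ∈ sylElems, res g = toM m
  clear hg
  induction hg' using Submonoid.closure_induction_left with
  | one => exact ⟨oneL, h.1.1.1.2, by rw [map_one, toM_oneL]⟩
  | mul_left z hz w _ ih =>
    obtain ⟨i, hi, rfl⟩ := hz
    obtain ⟨m, hm, hw⟩ := ih
    refine ⟨_, h.1.1.2 (sylGens.getD i []) ?_ m hm, ?_⟩
    · rw [List.getD_eq_getElem?_getD, List.getElem?_eq_getElem hi, Option.getD_some]
      exact List.getElem_mem hi
    · rw [map_mul, res_sylGen i hi, hw, toM_mulL]

theorem natCard_syl : Nat.card syl = 64 := by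
  have h := syl_ok
  simp only [sylOK, Bool.and_eq_true, List.all_eq_true, beq_iff_eq, decide_eq_true_eq] at h
  have hmem : ∀ w ∈ sylWords, (w.map sylGen).prod ∈ syl := fun w hw =>
    Subgroup.list_prod_mem _ fun x hx => by
      obtain ⟨i, hi, rfl⟩ := List.mem_map.1 hx
      exact Subgroup.subset_closure ⟨i, h.2 w hw i hi, rfl⟩
  have hres : ∀ w ∈ sylWords, res (w.map sylGen).prod = toM (prodL (w.map fun i => sylGens.getD i [])) := by
    intro w hw
    rw [toM_prodL, map_list_prod, List.map_map, List.map_map]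
    exact congrArg List.prod (List.map_congr_left fun i hi => res_sylGen i (h.2 w hw i hi))
  have hlen : sylWords.length = 64 := by
    rw [← List.length_map (fun w => prodL (w.map fun i => sylGens.getD i [])) (as := sylWords), h.1.2, syl_card]
  have hk : ∀ k : Fin 64, res (((sylWords[k.1]'(by rw [hlen]; exact k.2)).map sylGen).prod) =
      toM (sylElems[k.1]'(by rw [syl_card]; exact k.2)) := by
    intro k
    rw [hres _ (List.getElem_mem _)]
    congr 1
    simp only [← h.1.2, List.getElem_map]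
  let f : Fin 64 → syl := fun k => ⟨_, hmem _ (List.getElem_mem (show k.1 < sylWords.length by rw [hlen]; exact k.2))⟩
  have hbij : Function.Bijective f := by
    refine ⟨fun a b hab => ?_, fun g => ?_⟩
    · have e := congrArg (fun g : syl => res (g : G)) hab
      simp only [f, hk] at e
      have e' := toM_inj (h.1.1.1.1.1 _ (List.getElem_mem _)).1 (h.1.1.1.1.1 _ (List.getElem_mem _)).1 e
      exact Fin.ext ((h.1.1.1.1.2.getElem_inj_iff).1 e')
    · obtain ⟨m, hm, hgm⟩ := syl_mem g
      obtain ⟨k, hk', rfl⟩ := List.getElem_of_mem hm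
      refine ⟨⟨k, syl_card ▸ hk'⟩, Subtype.ext (res_injective ?_)⟩
      rw [hk, hgm]
  rw [← Nat.card_eq_of_bijective f hbij, Nat.card_fin]

theorem factorization_two : (Nat.card G).factorization 2 = 6 := by
  haveI : Fact (Nat.Prime 2) := ⟨Nat.prime_two⟩
  rw [natCard_G, Nat.factorization_def _ Nat.prime_two,
    show 2 ^ 6 * 3 ^ 6 * 7 * 13 = 2 ^ 6 * 66339 by norm_num,
    padicValNat.mul (by norm_num) (by norm_num), padicValNat.prime_pow,
    padicValNat.eq_zero_of_not_dvd (by norm_num)]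

theorem trace_involution {y : G} (hy : orderOf y = 2) : (res y).trace = 2 := by
  haveI : Fact (Nat.Prime 2) := ⟨Nat.prime_two⟩
  have hc : Nat.card syl = 2 ^ (Nat.card G).factorization 2 := by
    rw [natCard_syl, factorization_two]; norm_num
  have hp : IsPGroup 2 (Subgroup.zpowers y) := by
    refine IsPGroup.of_card (n := 1) ?_
    rw [Nat.card_zpowers, hy, pow_one]
  obtain ⟨Q, hQ⟩ := hp.exists_le_sylow
  obtain ⟨g, hg⟩ := MulAction.exists_smul_eq G Q (Sylow.ofCard syl hc)
  have hmem : g * y * g⁻¹ ∈ syl := by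
    rw [← Sylow.coe_ofCard syl hc, ← hg, Sylow.coe_subgroup_smul]
    exact ⟨y, hQ (Subgroup.mem_zpowers y), rfl⟩
  obtain ⟨m, hm, hgm⟩ := syl_mem ⟨_, hmem⟩
  have h := syl_ok
  simp only [sylOK, Bool.and_eq_true, List.all_eq_true, Bool.or_eq_true, beq_iff_eq, Bool.not_eq_true',
    beq_eq_false_iff_ne] at h
  obtain ⟨-, hmm⟩ := h.1.1.1.1.1 m hm
  have hcases : toM m = 1 ∨ toM m * toM m ≠ 1 ∨ (toM m).trace = 2 := by
    rcases hmm with (h1 | h1) | h1
    · exact Or.inl (by rw [h1, toM_oneL])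
    · by_cases h2 : toM m * toM m = 1
      · refine absurd ?_ h1
        rw [← toM_mulL, ← toM_oneL] at h2
        refine toM_inj ?_ (by decide +kernel) h2
        simp [reduced, mulL, Nat.mod_lt]
      · exact Or.inr (Or.inl h2)
    · exact Or.inr (Or.inr (by rw [toM_trace, h1, Nat.cast_ofNat]))
  rw [← hgm] at hcases
  have h2 : (g * y * g⁻¹) * (g * y * g⁻¹) = 1 := by
    rw [conj_mul, ← pow_two, orderOf_dvd_iff_pow_eq_one.1 hy.dvd, mul_one, mul_inv_cancel]
  rcases hcases with h1 | h1 | h1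
  · rw [res_eq_one, conj_eq_one_iff] at h1
    rw [h1, orderOf_one] at hy
    norm_num at hy
  · exact absurd (by rw [← map_mul, h2, map_one]) h1
  · rw [map_mul, map_mul] at h1
    rwa [Matrix.trace_mul_cycle, ← map_mul, inv_mul_cancel, map_one, one_mul] at h1

theorem conj_cases {p : ℕ} [Fact p.Prime] {g₀ : G} (h₀ : orderOf g₀ = p)
    (hf : (Nat.card G).factorization p = 1) {x : G} (hx : orderOf x = p) :
    ∃ (h : G) (j : ℕ), h * x ^ j * h⁻¹ = g₀ := by
  have hpx : Nat.card (Subgroup.zpowers x) = p ^ (Nat.card G).factorization p := by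
    rw [hf, pow_one, Nat.card_zpowers, hx]
  have hpg : Nat.card (Subgroup.zpowers g₀) = p ^ (Nat.card G).factorization p := by
    rw [hf, pow_one, Nat.card_zpowers, h₀]
  obtain ⟨h, hh⟩ := MulAction.exists_smul_eq G (Sylow.ofCard _ hpx) (Sylow.ofCard _ hpg)
  have hgm : g₀ ∈ ((h • Sylow.ofCard _ hpx : Sylow p G) : Subgroup G) := by
    rw [hh, Sylow.coe_ofCard]; exact Subgroup.mem_zpowers g₀
  rw [Sylow.coe_subgroup_smul] at hgm
  obtain ⟨u, hu, hug⟩ := hgm
  obtain ⟨j, hj⟩ := mem_powers_iff_mem_zpowers.2 (hu : u ∈ Subgroup.zpowers x)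
  exact ⟨h, j, by rw [show x ^ j = u from hj]; exact hug⟩

theorem commute_transfer {p q : ℕ} [Fact p.Prime] {g₀ : G} (h₀ : orderOf g₀ = p)
    (hf : (Nat.card G).factorization p = 1) (hC : ∀ y : G, Commute y g₀ → orderOf y ≠ q)
    {z : G} (hz : orderOf z = p * q) (hq : 0 < q) : False := by
  have hp : 0 < p := (Fact.out : p.Prime).pos
  have hx : orderOf (z ^ q) = p := by
    rw [orderOf_pow' z hq.ne', hz, Nat.gcd_mul_left_left, Nat.mul_div_cancel _ hq]
  have hy : orderOf (z ^ p) = q := by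
    rw [orderOf_pow' z hp.ne', hz, Nat.gcd_mul_right_left, Nat.mul_div_cancel_left _ hp]
  obtain ⟨h, j, hj⟩ := conj_cases h₀ hf hx
  refine hC (h * z ^ p * h⁻¹) ?_ ?_
  · rw [← hj]
    exact ((((Commute.refl z).pow_pow p q).pow_right j).map (MulAut.conj h).toMonoidHom)
  · rw [← hy]
    exact (MulAut.conj h).orderOf_eq (z ^ p)

theorem eq_one_of_coprime {D : Cyc} (hD : D.ok = true) {y : Matrix (Fin 7) (Fin 7) K3}
    (hy : Commute y (toM D.mat)) (k : ℕ) (hX : toM D.mat ^ 3 ^ k = toM D.mat) {q : ℕ} (hq : y ^ q = 1)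
    (hc : Nat.Coprime q (3 ^ k - 1)) (h0 : 0 < q) : y = 1 := by
  have h1 : y ^ (3 ^ k - 1) = 1 := by
    have hu : IsUnit y := IsUnit.of_pow_eq_one hq h0.ne'
    refine hu.mul_left_inj.1 ?_
    rw [← pow_succ, Nat.sub_add_cancel (Nat.one_le_pow _ _ (by norm_num)), one_mul]
    exact D.pow_eq_self hD hy k hX
  have := pow_gcd_eq_one.2 ⟨hq, h1⟩
  rwa [hc.gcd_eq_one, pow_one] at this

theorem det_refl (u v : Fin 7 → K3) (h : (-v) ⬝ᵥ u = -2) :
    (1 + replicateCol Unit u * replicateRow Unit (-v)).det = -1 := by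
  rw [Matrix.det_one_add_replicateCol_mul_replicateRow, h]
  norm_num

theorem det_neg_one7 : ((-1 : Matrix (Fin 7) (Fin 7) K3)).det = -1 := by
  rw [Matrix.det_neg, Matrix.det_one, Fintype.card_fin]
  norm_num

theorem no_involution_13 {y : G} (hy : Commute y g13) : orderOf y ≠ 2 := by
  intro ho
  have hc : Commute (res y) (toM cyc13.mat) := res_g13 ▸ hy.map res
  have h2 : res y * res y = 1 := by rw [← map_mul, ← pow_two, ← ho, pow_orderOf_eq_one, map_one]
  obtain ⟨c, hcs, hc'⟩ := Cyc.mem_sols cyc13_ok hc h2 (trace_involution ho)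
  have h := List.all_eq_true.1 sols13 c hcs
  simp only [Bool.or_eq_true, decide_eq_true_eq, ← hc'] at h
  have hd := res_det y
  rcases h with (h | h) | h
  · rw [h, det_neg_one7] at hd; exact absurd hd (by decide)
  · rw [h, det_refl _ _ refl_dot.1] at hd; exact absurd hd (by decide)
  · exact h (res_form y)

theorem no_involution_7 {y : G} (hy : Commute y g7) : orderOf y ≠ 2 := by
  intro ho
  have hc : Commute (res y) (toM cyc7.mat) := res_g7 ▸ hy.map res
  have h2 : res y * res y = 1 := by rw [← map_mul, ← pow_two, ← ho, pow_orderOf_eq_one, map_one]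
  obtain ⟨c, hcs, hc'⟩ := Cyc.mem_sols cyc7_ok hc h2 (trace_involution ho)
  have h := List.all_eq_true.1 sols7 c hcs
  simp only [Bool.or_eq_true, decide_eq_true_eq, ← hc'] at h
  have hd := res_det y
  rcases h with h | h
  · rw [h, det_neg_one7] at hd; exact absurd hd (by decide)
  · rw [h, det_refl _ _ refl_dot.2] at hd; exact absurd hd (by decide)

theorem no_coprime_13 {y : G} (hy : Commute y g13) {q : ℕ} (hc : Nat.Coprime q 26) (h0 : 0 < q)
    (hq : y ^ q = 1) : y = 1 := by
  refine res_eq_one.1 (eq_one_of_coprime cyc13_ok (res_g13 ▸ hy.map res) 3 ?_ (by rw [← map_pow, hq, map_one])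
    (by norm_num; exact hc) h0)
  rw [show cyc13.mat = mat13 from rfl, ← res_g13, ← map_pow, show (3 : ℕ) ^ 3 = 13 * 2 + 1 by norm_num, pow_succ,
    pow_mul, orderOf_dvd_iff_pow_eq_one.1 orderOf_g13.dvd, one_pow, one_mul]

theorem no_coprime_7 {y : G} (hy : Commute y g7) {q : ℕ} (hc : Nat.Coprime q 728) (h0 : 0 < q)
    (hq : y ^ q = 1) : y = 1 := by
  refine res_eq_one.1 (eq_one_of_coprime cyc7_ok (res_g7 ▸ hy.map res) 6 ?_ (by rw [← map_pow, hq, map_one])
    (by norm_num; exact hc) h0)
  rw [show cyc7.mat = mat7 from rfl, ← res_g7, ← map_pow, show (3 : ℕ) ^ 6 = 7 * 104 + 1 by norm_num, pow_succ,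
    pow_mul, orderOf_dvd_iff_pow_eq_one.1 orderOf_g7.dvd, one_pow, one_mul]

theorem prime_dvd_iff {r : ℕ} (hr : r.Prime) : r ∣ Nat.card G ↔ r = 2 ∨ r = 3 ∨ r = 7 ∨ r = 13 := by
  rw [natCard_G, hr.dvd_mul, hr.dvd_mul, hr.dvd_mul]
  have e : ∀ (a k : ℕ), a.Prime → k ≠ 0 → (r ∣ a ^ k ↔ r = a) := fun a k ha hk =>
    ⟨fun h => (Nat.prime_dvd_prime_iff_eq hr ha).1 (hr.dvd_of_dvd_pow h), fun h => h ▸ dvd_pow_self r hk⟩
  rw [e 2 6 (by norm_num) (by norm_num), e 3 6 (by norm_num) (by norm_num),
    Nat.prime_dvd_prime_iff_eq hr (by norm_num), Nat.prime_dvd_prime_iff_eq hr (by norm_num), or_assoc, or_assoc]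

theorem exists_prime_mul_iff {r s : ℕ} (hr : r.Prime) (hs : s.Prime) (hrs : r ≠ s) :
    (∃ x : G, orderOf x = r * s) ↔ r * s = 6 := by
  refine ⟨fun ⟨x, hx⟩ => ?_, fun h => h ▸ exists_six⟩
  haveI : Fact (Nat.Prime 13) := ⟨by norm_num⟩
  haveI : Fact (Nat.Prime 7) := ⟨by norm_num⟩
  have hd : r * s ∣ Nat.card G := hx ▸ orderOf_dvd_natCard x
  have hr' := (prime_dvd_iff hr).1 ((dvd_mul_right r s).trans hd)
  have hs' := (prime_dvd_iff hs).1 ((dvd_mul_left s r).trans hd)
  have hf : (Nat.card G).factorization 7 = 1 ∧ (Nat.card G).factorization 13 = 1 := by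
    constructor
    · rw [natCard_G, Nat.factorization_def _ (by norm_num), show 2 ^ 6 * 3 ^ 6 * 7 * 13 = 7 * 606528 by norm_num,
        padicValNat.mul (by norm_num) (by norm_num), padicValNat.self (by norm_num),
        padicValNat.eq_zero_of_not_dvd (by norm_num)]
    · rw [natCard_G, Nat.factorization_def _ (by norm_num), show 2 ^ 6 * 3 ^ 6 * 7 * 13 = 13 * 326592 by norm_num,
        padicValNat.mul (by norm_num) (by norm_num), padicValNat.self (by norm_num),
        padicValNat.eq_zero_of_not_dvd (by norm_num)]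
  have h13 : ∀ q, q = 2 ∨ q = 3 ∨ q = 7 → ∀ z : G, orderOf z ≠ 13 * q := by
    intro q hq z hz
    refine commute_transfer orderOf_g13 hf.2 (fun y hy ho => ?_) hz (by omega)
    rcases hq with rfl | rfl | rfl
    · exact no_involution_13 hy ho
    all_goals
      have := no_coprime_13 hy (by norm_num) (by norm_num) (ho ▸ pow_orderOf_eq_one y)
      rw [this, orderOf_one] at ho
      omega
  have h7 : ∀ q, q = 2 ∨ q = 3 → ∀ z : G, orderOf z ≠ 7 * q := by
    intro q hq z hz
    refine commute_transfer orderOf_g7 hf.1 (fun y hy ho => ?_) hz (by omega)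
    rcases hq with rfl | rfl
    · exact no_involution_7 hy ho
    · have := no_coprime_7 hy (by norm_num) (by norm_num) (ho ▸ pow_orderOf_eq_one y)
      rw [this, orderOf_one] at ho
      omega
  have n13 : orderOf x ≠ 26 ∧ orderOf x ≠ 39 ∧ orderOf x ≠ 91 :=
    ⟨h13 2 (by omega) x, h13 3 (by omega) x, h13 7 (by omega) x⟩
  have n7 : orderOf x ≠ 14 ∧ orderOf x ≠ 21 := ⟨h7 2 (by omega) x, h7 3 (by omega) x⟩
  rcases hr' with rfl | rfl | rfl | rfl <;> rcases hs' with rfl | rfl | rfl | rfl <;>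
    (try norm_num at hrs) <;> (try norm_num at hx) <;> (try norm_num) <;> omega

end Cfsg.Agent.Recognition.G2Three
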