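import Cfsg.Agent.Recognition.G2Three.Data

/-!
Seven by seven matrices over the field with three elements given by lists of natural numbers, and the involutions
commuting with a matrix which has a cyclic vector.
-/

set_option autoImplicit false

namespace Cfsg.Agent.Recognition.G2Three

open Matrix

/-- The field with three elements. -/
abbrev K3 := ZMod 3

/-- The matrix with the listed entries. -/
def toM (l : List ℕ) : Matrix (Fin 7) (Fin 7) K3 :=
  Matrix.of fun i j => (l.getD (7 * i.1 + j.1) 0 : K3)

/-- The vector with the listed entries. -/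
def toV (l : List ℕ) : Fin 7 → K3 := fun i => (l.getD i.1 0 : K3)

/-- The listed entries of a product. -/
def mulL (a b : List ℕ) : List ℕ :=
  (List.range 49).map fun k =>
    (a.getD (7 * (k / 7)) 0 * b.getD (k % 7) 0 + a.getD (7 * (k / 7) + 1) 0 * b.getD (7 + k % 7) 0 +
      a.getD (7 * (k / 7) + 2) 0 * b.getD (14 + k % 7) 0 + a.getD (7 * (k / 7) + 3) 0 * b.getD (21 + k % 7) 0 +
      a.getD (7 * (k / 7) + 4) 0 * b.getD (28 + k % 7) 0 + a.getD (7 * (k / 7) + 5) 0 * b.getD (35 + k % 7) 0 +
      a.getD (7 * (k / 7) + 6) 0 * b.getD (42 + k % 7) 0) % 3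

/-- The listed identity. -/
def oneL : List ℕ := (List.range 49).map fun k => if k / 7 = k % 7 then 1 else 0

/-- The transposed list. -/
def trL (a : List ℕ) : List ℕ := (List.range 49).map fun k => a.getD (7 * (k % 7) + k / 7) 0

/-- The trace. -/
def traceL (a : List ℕ) : ℕ :=
  (a.getD 0 0 + a.getD 8 0 + a.getD 16 0 + a.getD 24 0 + a.getD 32 0 + a.getD 40 0 + a.getD 48 0) % 3

theorem getD_map_range (f : ℕ → ℕ) {n k : ℕ} (h : k < n) : ((List.range n).map f).getD k 0 = f k := by
  simp [List.getD_eq_getElem?_getD, h]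

theorem toM_mulL (a b : List ℕ) : toM (mulL a b) = toM a * toM b := by
  ext i j
  have hk : 7 * i.1 + j.1 < 49 := by omega
  have h1 : (7 * i.1 + j.1) / 7 = i.1 := by omega
  have h2 : (7 * i.1 + j.1) % 7 = j.1 := by omega
  simp only [toM, Matrix.of_apply, mulL, getD_map_range _ hk, h1, h2, ZMod.natCast_mod, Nat.cast_add,
    Nat.cast_mul, Matrix.mul_apply, Fin.sum_univ_seven]
  simp

theorem toM_oneL : toM oneL = 1 := by decide +kernel

theorem toM_trL (a : List ℕ) : toM (trL a) = (toM a)ᵀ := by
  ext i j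
  have hk : 7 * i.1 + j.1 < 49 := by omega
  have h1 : (7 * i.1 + j.1) / 7 = i.1 := by omega
  have h2 : (7 * i.1 + j.1) % 7 = j.1 := by omega
  simp only [toM, Matrix.of_apply, Matrix.transpose_apply, trL, getD_map_range _ hk, h1, h2]

theorem toM_trace (a : List ℕ) : (toM a).trace = (traceL a : K3) := by
  simp only [Matrix.trace, Matrix.diag, toM, Matrix.of_apply, traceL, ZMod.natCast_mod, Nat.cast_add,
    Fin.sum_univ_seven]
  rfl

/-- The entries are reduced and there are forty-nine of them. -/
def reduced (a : List ℕ) : Bool := a.length == 49 && a.all fun x => decide (x < 3)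

theorem toM_inj {a b : List ℕ} (ha : reduced a = true) (hb : reduced b = true) (h : toM a = toM b) : a = b := by
  simp only [reduced, Bool.and_eq_true, beq_iff_eq, List.all_eq_true, decide_eq_true_eq] at ha hb
  refine List.ext_getElem (ha.1.trans hb.1.symm) fun k h1 h2 => ?_
  have hk : k < 49 := ha.1 ▸ h1
  have := congrFun (congrFun h ⟨k / 7, by omega⟩) ⟨k % 7, Nat.mod_lt _ (by norm_num)⟩
  simp only [toM, Matrix.of_apply, Nat.div_add_mod, List.getD_eq_getElem?_getD, List.getElem?_eq_getElem h1,
    List.getElem?_eq_getElem h2, Option.getD_some] at this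
  have h3 := congrArg ZMod.val this
  rwa [ZMod.val_natCast, ZMod.val_natCast, Nat.mod_eq_of_lt (ha.2 _ (List.getElem_mem h1)),
    Nat.mod_eq_of_lt (hb.2 _ (List.getElem_mem h2))] at h3

/-- Product of a list of listed matrices. -/
def prodL (L : List (List ℕ)) : List ℕ := L.foldr mulL oneL

theorem toM_prodL (L : List (List ℕ)) : toM (prodL L) = (L.map toM).prod := by
  induction L with
  | nil => exact toM_oneL
  | cons a L ih => rw [prodL, List.foldr_cons, toM_mulL, List.map_cons, List.prod_cons, ← ih]; rfl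

/-- All lists of length `n` with entries below three. -/
def allVec : ℕ → (List ℕ → Bool) → Bool
  | 0, f => f []
  | n + 1, f => allVec n (fun l => f (0 :: l) && f (1 :: l) && f (2 :: l))

theorem allVec_spec : ∀ (n : ℕ) (f : List ℕ → Bool), allVec n f = true →
    ∀ l : List ℕ, l.length = n → (∀ x ∈ l, x < 3) → f l = true
  | 0, f, h, l, hl, _ => by rw [List.length_eq_zero_iff.1 hl]; exact h
  | n + 1, f, h, a :: l, hl, hx => by
    have h' := allVec_spec n _ h l (by simpa using hl) fun x hx' => hx x (List.mem_cons_of_mem _ hx')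
    simp only [Bool.and_eq_true] at h'
    have ha := hx a List.mem_cons_self
    interval_cases a
    · exact h'.1.1
    · exact h'.1.2
    · exact h'.2

section Commutant

variable (v : List ℕ) (orb : List (List ℕ)) (tr : List ℕ) (sols : List (List ℕ))

/-- The vector `y² v`, component `k`, for `y` the combination with coefficients `c`. -/
def sqVec (c : List ℕ) (k : ℕ) : ℕ :=
  ((List.range 7).map fun i => ((List.range 7).map fun j =>
    c.getD i 0 * c.getD j 0 * (orb.getD (i + j) []).getD k 0).sum).sum % 3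

/-- The trace of the combination with coefficients `c`. -/
def linTrace (c : List ℕ) : ℕ := ((List.range 7).map fun i => c.getD i 0 * tr.getD i 0).sum % 3

/-- An involutory combination of trace two is one of `sols`. -/
def solOK (c : List ℕ) : Bool :=
  !(linTrace tr c == 2) || !((List.range 7).all fun k => sqVec orb c k == v.getD k 0 % 3) || sols.elem c

end Commutant

theorem sum_range_seven {R : Type*} [AddCommMonoid R] (g : ℕ → R) :
    ((List.range 7).map g).sum = ∑ i : Fin 7, g i.1 := by
  rw [Fin.sum_univ_seven]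
  simp [List.range_succ, add_assoc]

/-- The data of a matrix with a cyclic vector. -/
structure Cyc where
  mat : List ℕ
  pows : List (List ℕ)
  vec : List ℕ
  inv : List ℕ
  orb : List (List ℕ)
  tr : List ℕ
  sols : List (List ℕ)

/-- The checks on the data. -/
def Cyc.ok (D : Cyc) : Bool :=
  (D.pows.getD 0 [] == oneL) &&
    ((List.range 12).all fun i => mulL D.mat (D.pows.getD i []) == D.pows.getD (i + 1) []) &&
    ((List.range 13).all fun i => (List.range 7).all fun k =>
      ((List.range 7).map fun j => (D.pows.getD i []).getD (7 * k + j) 0 * D.vec.getD j 0).sum % 3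
        == (D.orb.getD i []).getD k 0 % 3) &&
    ((List.range 7).all fun i => traceL (D.pows.getD i []) == D.tr.getD i 0 % 3) &&
    (mulL ((List.range 49).map fun k => (D.orb.getD (k % 7) []).getD (k / 7) 0) D.inv == oneL) &&
    allVec 7 (solOK D.vec D.orb D.tr D.sols)

/-- The combination of powers with coefficients `c`. -/
def Cyc.lin (D : Cyc) (c : List ℕ) : List ℕ :=
  (List.range 49).map fun k => ((List.range 7).map fun i => c.getD i 0 * (D.pows.getD i []).getD k 0).sum % 3

/-- The polynomial with the listed coefficients. -/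
noncomputable def polyOf (c : Fin 7 → K3) : Polynomial K3 :=
  ∑ i : Fin 7, Polynomial.C (c i) * Polynomial.X ^ i.1

theorem aeval_polyOf (c : Fin 7 → K3) (X : Matrix (Fin 7) (Fin 7) K3) :
    Polynomial.aeval X (polyOf c) = ∑ i : Fin 7, c i • X ^ i.1 := by
  simp [polyOf, Algebra.smul_def]

namespace Cyc

variable {D : Cyc} (h : D.ok = true)

include h

theorem pow_spec : ∀ i, i < 13 → toM (D.pows.getD i []) = toM D.mat ^ i := by
  simp only [ok, Bool.and_eq_true, List.all_eq_true, beq_iff_eq, List.mem_range] at h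
  intro i
  induction i with
  | zero => intro _; rw [h.1.1.1.1.1, toM_oneL, pow_zero]
  | succ i ih => intro hi; rw [← h.1.1.1.1.2 i (by omega), toM_mulL, ih (by omega), pow_succ']

theorem orb_spec (i : ℕ) (hi : i < 13) (k : Fin 7) :
    (toM D.mat ^ i *ᵥ toV D.vec) k = ((D.orb.getD i []).getD k.1 0 : K3) := by
  rw [← pow_spec h i hi]
  simp only [ok, Bool.and_eq_true, List.all_eq_true, beq_iff_eq, List.mem_range] at h
  have := congrArg (fun n : ℕ => (n : K3)) (h.1.1.1.2 i hi k.1 k.2)
  simp only [ZMod.natCast_mod] at this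
  rw [← this, sum_range_seven]
  simp [Matrix.mulVec, dotProduct, toM, toV]

theorem trace_spec (i : Fin 7) : (toM D.mat ^ i.1).trace = ((D.tr.getD i.1 0 : ℕ) : K3) := by
  rw [← pow_spec h i.1 (by omega), toM_trace]
  simp only [ok, Bool.and_eq_true, List.all_eq_true, beq_iff_eq, List.mem_range] at h
  rw [h.1.1.2 i.1 i.2, ZMod.natCast_mod]

/-- The centraliser consists of polynomials. -/
theorem exists_coeff {y : Matrix (Fin 7) (Fin 7) K3} (hy : Commute y (toM D.mat)) :
    ∃ c : Fin 7 → K3, y = ∑ i : Fin 7, c i • toM D.mat ^ i.1 := by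
  have hk : toM ((List.range 49).map fun k => (D.orb.getD (k % 7) []).getD (k / 7) 0) * toM D.inv = 1 := by
    have h' := h
    simp only [ok, Bool.and_eq_true, beq_iff_eq] at h'
    rw [← toM_mulL, h'.1.2, toM_oneL]
  set K := toM ((List.range 49).map fun k => (D.orb.getD (k % 7) []).getD (k / 7) 0) with hK
  have hcol : ∀ (k j : Fin 7), K k j = (toM D.mat ^ j.1 *ᵥ toV D.vec) k := by
    intro k j
    have h2 : (7 * k.1 + j.1) % 7 = j.1 := by omega
    have h3 : (7 * k.1 + j.1) / 7 = k.1 := by omega
    rw [orb_spec h j.1 (by omega) k, hK]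
    simp only [toM, Matrix.of_apply, getD_map_range _ (show 7 * k.1 + j.1 < 49 by omega), h2, h3]
  set c := toM D.inv *ᵥ (y *ᵥ toV D.vec) with hc
  refine ⟨c, ?_⟩
  set p := ∑ i : Fin 7, c i • toM D.mat ^ i.1 with hp
  have hpc : Commute p (toM D.mat) := by
    rw [hp]
    exact Commute.sum_left _ _ _ fun i _ => (Commute.pow_self _ _).smul_left _
  have hv : p *ᵥ toV D.vec = y *ᵥ toV D.vec := by
    rw [← Matrix.one_mulVec (y *ᵥ toV D.vec), ← hk, ← Matrix.mulVec_mulVec, ← hc, hp, Matrix.sum_mulVec]
    funext k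
    simp only [Finset.sum_apply, Matrix.smul_mulVec, Pi.smul_apply, smul_eq_mul]
    simp only [Matrix.mulVec, dotProduct, ← hcol, mul_comm]
    exact Finset.sum_congr rfl fun i _ => by rw [hcol]; rfl
  have he : y * K = p * K := by
    ext k j
    have e : ∀ z : Matrix (Fin 7) (Fin 7) K3, Commute z (toM D.mat) →
        (z * K) k j = (toM D.mat ^ j.1 *ᵥ (z *ᵥ toV D.vec)) k := by
      intro z hz
      rw [Matrix.mulVec_mulVec, ← (hz.pow_right j.1).eq, ← Matrix.mulVec_mulVec]
      simp [Matrix.mul_apply, Matrix.mulVec, dotProduct, hcol]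
    rw [e y hy, e p hpc, hv]
  rw [← mul_one y, ← mul_one p, ← hk, ← mul_assoc, ← mul_assoc, he]

/-- An element of the centraliser is fixed by raising to a power fixing the matrix. -/
theorem pow_eq_self {y : Matrix (Fin 7) (Fin 7) K3} (hy : Commute y (toM D.mat)) (k : ℕ)
    (hX : toM D.mat ^ 3 ^ k = toM D.mat) : y ^ 3 ^ k = y := by
  obtain ⟨c, rfl⟩ := exists_coeff h hy
  have : ∀ (m : ℕ) (f : Polynomial K3), f ^ 3 ^ m = Polynomial.expand K3 (3 ^ m) f := by
    intro m
    induction m with
    | zero => intro f; simp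
    | succ m ih =>
      intro f
      rw [pow_succ, pow_mul, ih, ← ZMod.expand_card, Polynomial.expand_expand, mul_comm]
  rw [← aeval_polyOf, ← map_pow, this, Polynomial.expand_aeval, hX]

/-- The involutory combinations of trace two. -/
theorem mem_sols {y : Matrix (Fin 7) (Fin 7) K3} (hy : Commute y (toM D.mat)) (h2 : y * y = 1)
    (ht : y.trace = 2) : ∃ c ∈ D.sols, y = toM (D.lin c) := by
  obtain ⟨c, rfl⟩ := exists_coeff h hy
  set l := List.ofFn fun i => (c i).val with hl
  have hget : ∀ i : Fin 7, (l.getD i.1 0 : K3) = c i := by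
    intro i
    rw [hl, List.getD_eq_getElem?_getD, List.getElem?_ofFn, dif_pos i.2, Option.getD_some, Fin.eta,
      ZMod.natCast_zmod_val]
  have hlin : ∑ i : Fin 7, c i • toM D.mat ^ i.1 = toM (D.lin l) := by
    ext a b
    rw [Matrix.sum_apply]
    simp only [toM, Matrix.of_apply, lin, getD_map_range _ (show 7 * a.1 + b.1 < 49 by omega),
      ZMod.natCast_mod, sum_range_seven, Nat.cast_sum, Nat.cast_mul, hget]
    refine Finset.sum_congr rfl fun i _ => ?_
    have := pow_spec h i.1 (by omega)
    rw [Matrix.smul_apply, smul_eq_mul, show Matrix.of (fun i j => ((D.mat.getD (7 * i.1 + j.1) 0 : ℕ) : K3))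
      = toM D.mat from rfl, ← this]
    rfl
  have hall := h
  simp only [ok, Bool.and_eq_true] at hall
  have hsol := allVec_spec 7 _ hall.2 l (by rw [hl, List.length_ofFn]) (by
    intro x hx
    rw [hl, List.mem_ofFn] at hx
    obtain ⟨i, rfl⟩ := hx
    exact ZMod.val_lt _)
  refine ⟨l, ?_, hlin⟩
  have htr : linTrace D.tr l = 2 := by
    have e : ((linTrace D.tr l : ℕ) : K3) = ((2 : ℕ) : K3) := by
      rw [Nat.cast_ofNat, ← ht, linTrace, ZMod.natCast_mod, sum_range_seven, Nat.cast_sum, Matrix.trace_sum]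
      refine Finset.sum_congr rfl fun i _ => ?_
      rw [Nat.cast_mul, hget, Matrix.trace_smul, trace_spec h, smul_eq_mul]
    have e2 := congrArg ZMod.val e
    rwa [ZMod.val_natCast, ZMod.val_natCast, Nat.mod_eq_of_lt (a := linTrace D.tr l)
      (by rw [linTrace]; exact Nat.mod_lt _ (by norm_num))] at e2
  have hsq : ∀ k, k < 7 → sqVec D.orb l k = D.vec.getD k 0 % 3 := by
    intro k hk
    have e : ((sqVec D.orb l k : ℕ) : K3) = ((D.vec.getD k 0 % 3 : ℕ) : K3) := by
      rw [sqVec, ZMod.natCast_mod, sum_range_seven, ZMod.natCast_mod, Nat.cast_sum]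
      calc _ = (((∑ i : Fin 7, c i • toM D.mat ^ i.1) * ∑ i : Fin 7, c i • toM D.mat ^ i.1) *ᵥ toV D.vec) ⟨k, hk⟩ := by
            rw [Finset.sum_mul_sum, Matrix.sum_mulVec, Finset.sum_apply]
            refine Finset.sum_congr rfl fun i _ => ?_
            rw [sum_range_seven, Nat.cast_sum, Matrix.sum_mulVec, Finset.sum_apply]
            refine Finset.sum_congr rfl fun j _ => ?_
            rw [smul_mul_smul_comm, ← pow_add, Matrix.smul_mulVec, Pi.smul_apply,
              orb_spec h (i.1 + j.1) (by omega) ⟨k, hk⟩, Nat.cast_mul, Nat.cast_mul, hget, hget, smul_eq_mul]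
        _ = _ := by rw [h2, Matrix.one_mulVec]; rfl
    have e2 := congrArg ZMod.val e
    rwa [ZMod.val_natCast, ZMod.val_natCast, Nat.mod_mod, Nat.mod_eq_of_lt (a := sqVec D.orb l k)
      (by rw [sqVec]; exact Nat.mod_lt _ (by norm_num))] at e2
  have hall2 : ((List.range 7).all fun k => sqVec D.orb l k == D.vec.getD k 0 % 3) = true :=
    List.all_eq_true.2 fun k hk => beq_iff_eq.2 (hsq k (List.mem_range.1 hk))
  rw [solOK, htr, hall2] at hsol
  simpa using hsol

end Cyc

end Cfsg.Agent.Recognition.G2Three
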