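import Cfsg.Agent.Recognition.G2Three.Checks
import Cfsg.Agent.Lib.Chevalley.Types.SimpleG2
import Cfsg.Agent.Lib.Chevalley.Types.OrderG2
import Cfsg.Prelude.Def_ChevG2

/-!
The seven-dimensional representation of the group of type G₂ over the field with three elements.
-/

set_option autoImplicit false

namespace Cfsg.Agent.Recognition.G2Three

open Cfsg.Lie Matrix

/-- The coordinates of the invariant subspace: the short roots and one coroot. -/
def emb : Fin 7 → chevG2.Idx
  | 0 => Sum.inr ⟨2, by decide⟩
  | 1 => Sum.inr ⟨3, by decide⟩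
  | 2 => Sum.inr ⟨4, by decide⟩
  | 3 => Sum.inl ⟨0, by decide⟩
  | 4 => Sum.inr ⟨7, by decide⟩
  | 5 => Sum.inr ⟨8, by decide⟩
  | 6 => Sum.inr ⟨9, by decide⟩

theorem emb_injective : Function.Injective emb := by decide +kernel

theorem xMat_stable : ∀ r : Fin chevG2.nroots, ∀ t : K3, ∀ a : chevG2.Idx, ∀ b : Fin 7,
    (∀ k : Fin 7, emb k ≠ a) → chevG2.xMat K3 r t a (emb b) = 0 := by decide +kernel

theorem xMat_emb : ∀ r : Fin chevG2.nroots, ∀ t : K3,
    (chevG2.xMat K3 r t).submatrix emb emb = toM (rootL (r.1, t.val)) := by decide +kernel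

/-- The matrices leaving the subspace invariant. -/
def Stable (M : Matrix chevG2.Idx chevG2.Idx K3) : Prop :=
  ∀ a b, (∀ k : Fin 7, emb k ≠ a) → M a (emb b) = 0

theorem stable_one : Stable 1 := fun a b h => Matrix.one_apply_ne (h b).symm

theorem sub_mul_stable {M N : Matrix chevG2.Idx chevG2.Idx K3} (hN : Stable N) (i : chevG2.Idx) (j : Fin 7) :
    (M * N) i (emb j) = ∑ k : Fin 7, M i (emb k) * N (emb k) (emb j) := by
  rw [Matrix.mul_apply]
  refine (Fintype.sum_of_injective emb emb_injective _ _ (fun a ha => ?_) fun k => rfl).symm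
  rw [hN a j fun k hk => ha ⟨k, hk⟩, mul_zero]

theorem stable_mul {M N : Matrix chevG2.Idx chevG2.Idx K3} (hM : Stable M) (hN : Stable N) :
    Stable (M * N) := fun a b h => by
  rw [sub_mul_stable hN]
  exact Finset.sum_eq_zero fun k _ => by rw [hM a k h, zero_mul]

/-- The group. -/
abbrev G := ↥(chevG2.group K3)

instance : Finite G := Subtype.finite

/-- A root element. -/
noncomputable def root (r : Fin chevG2.nroots) (t : K3) : G :=
  ⟨Matrix.GeneralLinearGroup.mkOfDetNeZero (chevG2.xMat K3 r t) (by
    have h : ∀ r : Fin chevG2.nroots, ∀ t : K3, chevG2.xMat K3 r t * chevG2.xMat K3 r (-t) = 1 := by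
      decide +kernel
    intro h0
    have := congrArg Matrix.det (h r t)
    rw [Matrix.det_mul, h0, zero_mul, Matrix.det_one] at this
    exact zero_ne_one this), Subgroup.subset_closure ⟨r, t, rfl⟩⟩

theorem induction_roots {P : G → Prop} (h1 : P 1) (hm : ∀ r t g, P g → P (root r t * g)) (g : G) : P g := by
  suffices ∀ x : GL chevG2.Idx K3, ∀ hx : x ∈ chevG2.group K3, P ⟨x, hx⟩ from this g.1 g.2
  intro x hx
  have hx' : x ∈ Submonoid.closure {y : GL chevG2.Idx K3 | ∃ (r : Fin chevG2.nroots) (t : K3),
      (y : Matrix chevG2.Idx chevG2.Idx K3) = chevG2.xMat K3 r t} := by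
    rwa [← Subgroup.closure_toSubmonoid_of_finite, Subgroup.mem_toSubmonoid]
  induction hx' using Submonoid.closure_induction_left with
  | one => exact h1
  | mul_left z hz w hw ih =>
    obtain ⟨r, t, hrt⟩ := hz
    have hw' : w ∈ chevG2.group K3 := by
      rwa [← Subgroup.closure_toSubmonoid_of_finite, Subgroup.mem_toSubmonoid] at hw
    have e : (⟨z * w, hx⟩ : G) = root r t * ⟨w, hw'⟩ := Subtype.ext (congrArg (· * w) (Units.ext hrt))
    rw [e]
    exact hm r t _ (ih hw')

theorem stable_mem (g : G) : Stable ((g : GL chevG2.Idx K3) : Matrix chevG2.Idx chevG2.Idx K3) := by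
  induction g using induction_roots with
  | h1 => exact stable_one
  | hm r t g ih => exact stable_mul (xMat_stable r t) ih

/-- The restriction to the subspace. -/
noncomputable def res : G →* Matrix (Fin 7) (Fin 7) K3 where
  toFun g := ((g : GL chevG2.Idx K3) : Matrix chevG2.Idx chevG2.Idx K3).submatrix emb emb
  map_one' := by
    ext i j
    simp [Matrix.one_apply, emb_injective.eq_iff]
  map_mul' g h := by
    ext i j
    exact sub_mul_stable (stable_mem h) (emb i) j

theorem res_root (r : Fin chevG2.nroots) (t : K3) : res (root r t) = toM (rootL (r.1, t.val)) := by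
  exact xMat_emb r t

theorem res_injective : Function.Injective res := by
  haveI : IsSimpleGroup G := (Cfsg.Agent.Chevalley.Types.SimpleG2.simple_group K3 ⟨2, by decide, by decide⟩).1
  let φ : G →* (Matrix (Fin 7) (Fin 7) K3)ˣ := res.toHomUnits
  have hker : φ.ker = ⊥ := by
    refine (φ.normal_ker.eq_bot_or_eq_top).resolve_right fun h => ?_
    have h1 : res (root ⟨11, by decide⟩ 1) = 1 :=
      congrArg Units.val (MonoidHom.mem_ker.1 (h ▸ Subgroup.mem_top (root ⟨11, by decide⟩ 1) : root ⟨11, by decide⟩ 1 ∈ φ.ker))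
    rw [res_root] at h1
    exact absurd h1 (by decide +kernel)
  intro a b hab
  exact (MonoidHom.ker_eq_bot_iff φ).1 hker (Units.ext hab)

theorem toM_powL (a : List ℕ) (n : ℕ) : toM (powL a n) = toM a ^ n := by
  induction n with
  | zero => exact toM_oneL.trans (pow_zero _).symm
  | succ n ih => rw [powL, toM_mulL, ih, pow_succ']

theorem fin_of_val (t : K3) : ∃ s : Fin 3, t.val = s.1 := ⟨⟨t.val, ZMod.val_lt t⟩, rfl⟩

theorem res_form (g : G) : (res g)ᵀ * toM formL * res g = toM formL := by
  induction g using induction_roots with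
  | h1 => rw [map_one, Matrix.transpose_one, Matrix.one_mul, Matrix.mul_one]
  | hm r t g ih =>
    obtain ⟨s, hs⟩ := fin_of_val t
    have h := congrArg toM (root_form r s)
    rw [toM_mulL, toM_mulL, toM_trL, ← hs, ← res_root, ← Matrix.mul_assoc] at h
    rw [map_mul, Matrix.transpose_mul]
    calc _ = (res g)ᵀ * ((res (root r t))ᵀ * toM formL * res (root r t)) * res g := by
          simp only [Matrix.mul_assoc]
      _ = _ := by rw [h, ih]

theorem res_det (g : G) : (res g).det = 1 := by
  induction g using induction_roots with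
  | h1 => rw [map_one, Matrix.det_one]
  | hm r t g ih =>
    rw [map_mul, Matrix.det_mul, ih, mul_one]
    obtain ⟨s, hs⟩ := fin_of_val t
    have h := congrArg (fun M => (toM M).det) (root_cube r s)
    simp only [toM_powL, Matrix.det_pow, toM_oneL, Matrix.det_one, ← hs, ← res_root] at h
    rwa [ZMod.pow_card] at h

/-- The element of a word. -/
noncomputable def wordG (w : List (ℕ × ℕ)) : G :=
  (w.map fun p => if h : p.1 < chevG2.nroots then root ⟨p.1, h⟩ (p.2 : K3) else 1).prod

theorem res_wordG (w : List (ℕ × ℕ)) (hw : ∀ p ∈ w, p.1 < chevG2.nroots ∧ p.2 < 3) :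
    res (wordG w) = toM (prodL (w.map rootL)) := by
  rw [wordG, toM_prodL, map_list_prod, List.map_map, List.map_map]
  congr 1
  refine List.map_congr_left fun p hp => ?_
  simp only [Function.comp_apply, dif_pos (hw p hp).1, res_root]
  rw [ZMod.val_natCast, Nat.mod_eq_of_lt (hw p hp).2]

theorem res_eq_one {g : G} : res g = 1 ↔ g = 1 := by
  rw [← res.map_one]; exact res_injective.eq_iff

theorem natCard_G : Nat.card G = 2 ^ 6 * 3 ^ 6 * 7 * 13 := by
  have h := Cfsg.Agent.Chevalley.Types.OrderG2.card_group K3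
  simp only [ZMod.card, Fin.prod_univ_two, Cfsg.Agent.Chevalley.Types.OrderG2.ed] at h
  norm_num at h ⊢
  exact h

end Cfsg.Agent.Recognition.G2Three
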